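import Mathlib

/-!
Sums of two powers of two modulo large divisors of `2 ^ n - 1`.
-/

set_option autoImplicit false
set_option synthInstance.maxSize 5000

namespace Cfsg.Lib.SuzukiSolv.Arith

theorem pow_rot {n m x r : ℕ} (h : m ∣ 2 ^ n - 1) :
    2 ^ ((x + r) % n) ≡ 2 ^ x * 2 ^ r [MOD m] := by
  have h1 : 2 ^ n ≡ 1 [MOD m] := ((Nat.modEq_iff_dvd' Nat.one_le_two_pow).mpr h).symm
  have h2 := (h1.pow ((x + r) / n)).mul_right (2 ^ ((x + r) % n))
  rw [one_pow, one_mul, ← pow_mul, ← pow_add, Nat.div_add_mod, pow_add] at h2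
  exact h2.symm

theorem sum_eq {a b c d : ℕ} (h : 2 ^ a + 2 ^ b = 2 ^ c + 2 ^ d) :
    (a = c ∧ b = d) ∨ (a = d ∧ b = c) := by
  have key : ∀ a b c d : ℕ, a ≤ b → c ≤ d → 2 ^ a + 2 ^ b = 2 ^ c + 2 ^ d → a = c ∧ b = d := by
    intro a b c d hab hcd h
    have ha := Nat.pow_le_pow_right (show 0 < 2 by omega) hab
    have hc := Nat.pow_le_pow_right (show 0 < 2 by omega) hcd
    have ha0 := Nat.two_pow_pos a
    have hc0 := Nat.two_pow_pos c
    have h1 : b < d + 1 := (Nat.pow_lt_pow_iff_right (show 1 < 2 by omega)).mp (by rw [pow_succ]; omega)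
    have h2 : d < b + 1 := (Nat.pow_lt_pow_iff_right (show 1 < 2 by omega)).mp (by rw [pow_succ]; omega)
    obtain rfl : b = d := by omega
    exact ⟨Nat.pow_right_injective le_rfl (show 2 ^ a = 2 ^ c by omega), rfl⟩
  rcases le_total a b with hab | hab <;> rcases le_total c d with hcd | hcd
  · exact Or.inl (key a b c d hab hcd h)
  · exact Or.inr (key a b d c hab hcd (by omega))
  · obtain ⟨h1, h2⟩ := key b a c d hab hcd (by omega)
    exact Or.inr ⟨h2, h1⟩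
  · obtain ⟨h1, h2⟩ := key b a d c hab hcd (by omega)
    exact Or.inl ⟨h2, h1⟩

theorem four {n m e a b c d : ℕ} (hme : m * e = 2 ^ n - 1) (he0 : 0 < e) (he : e < 2 ^ (n / 5))
    (ha : a < n) (hb : b < n) (hc : c < n) (hd : d < n)
    (h : 2 ^ a + 2 ^ b ≡ 2 ^ c + 2 ^ d [MOD m]) :
    (a = c ∧ b = d) ∨ (a = d ∧ b = c) := by
  set g := n / 5 with hg
  have hg1 : 1 ≤ g := by
    by_contra h0
    rw [show g = 0 by omega, pow_zero] at he
    omega
  have h5 : 5 * g ≤ n := Nat.mul_div_le n 5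
  obtain ⟨k, hk, hka, hkb, hkc, hkd⟩ :
      ∃ k < 5, k ≠ a / g ∧ k ≠ b / g ∧ k ≠ c / g ∧ k ≠ d / g := by
    by_contra hno
    push Not at hno
    have h0 := hno 0 (by omega)
    have h1 := hno 1 (by omega)
    have h2 := hno 2 (by omega)
    have h3 := hno 3 (by omega)
    have h4 := hno 4 (by omega)
    omega
  obtain ⟨r, hr⟩ : ∃ r, r + (k + 1) * g = n :=
    ⟨n - (k + 1) * g, Nat.sub_add_cancel (le_trans (Nat.mul_le_mul_right g (show k + 1 ≤ 5 by omega)) h5)⟩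
  have hout : ∀ x, k ≠ x / g → x < k * g ∨ (k + 1) * g ≤ x := by
    intro x hx
    rcases Nat.lt_or_ge x (k * g) with h1 | h1
    · exact Or.inl h1
    · exact Or.inr (not_lt.mp fun h2 => hx (Nat.div_eq_of_lt_le h1 h2).symm)
  have hkg : (k + 1) * g = k * g + g := by ring
  have hrot : ∀ x < n, k ≠ x / g → (x + r) % n < n - g := by
    intro x hx hkx
    rcases hout x hkx with h1 | h1
    · rw [Nat.mod_eq_of_lt (by omega)]
      omega
    · rw [Nat.mod_eq_sub_mod (by omega), Nat.mod_eq_of_lt (by omega)]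
      omega
  have hinj : ∀ x y, x < n → y < n → (x + r) % n = (y + r) % n → x = y := fun x y hx hy e => by
    have := Nat.ModEq.add_right_cancel' r (show x + r ≡ y + r [MOD n] from e)
    exact this.eq_of_lt_of_lt hx hy
  have hm : 2 ^ (n - g) < m := by
    by_contra hle
    push Not at hle
    have h1 : 2 ^ n - 1 ≤ 2 ^ (n - g) * (2 ^ g - 1) := hme ▸ Nat.mul_le_mul hle (by omega)
    rw [Nat.mul_sub, mul_one, ← pow_add, Nat.sub_add_cancel (by omega)] at h1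
    have h2 : 2 ≤ 2 ^ (n - g) := by
      calc 2 = 2 ^ 1 := rfl
        _ ≤ _ := Nat.pow_le_pow_right (by omega) (by omega)
    have h3 : 2 ^ (n - g) ≤ 2 ^ n := Nat.pow_le_pow_right (by omega) (by omega)
    omega
  have hsmall : ∀ x y, x < n - g → y < n - g → 2 ^ x + 2 ^ y < m := fun x y hx hy => by
    have h1 := Nat.pow_le_pow_right (show 0 < 2 by omega) (show x + 1 ≤ n - g by omega)
    have h2 := Nat.pow_le_pow_right (show 0 < 2 by omega) (show y + 1 ≤ n - g by omega)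
    rw [pow_succ] at h1 h2
    omega
  have hdvd : m ∣ 2 ^ n - 1 := ⟨e, hme.symm⟩
  have hcong : 2 ^ ((a + r) % n) + 2 ^ ((b + r) % n) ≡ 2 ^ ((c + r) % n) + 2 ^ ((d + r) % n) [MOD m] := by
    refine (((pow_rot hdvd).add (pow_rot hdvd)).trans ?_).trans ((pow_rot hdvd).add (pow_rot hdvd)).symm
    rw [← add_mul, ← add_mul]
    exact h.mul_right _
  have heq := hcong.eq_of_lt_of_lt (hsmall _ _ (hrot a ha hka) (hrot b hb hkb))
    (hsmall _ _ (hrot c hc hkc) (hrot d hd hkd))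
  rcases sum_eq heq with ⟨h1, h2⟩ | ⟨h1, h2⟩
  · exact Or.inl ⟨hinj a c ha hc h1, hinj b d hb hd h2⟩
  · exact Or.inr ⟨hinj a d ha hd h1, hinj b c hb hc h2⟩

theorem lt_two_pow : ∀ g, 5 ≤ g → 5 * (g + 1) ≤ 2 ^ g := by
  intro g hg
  induction g, hg using Nat.le_induction with
  | base => norm_num
  | succ g hg ih => rw [pow_succ]; omega

theorem index_small {n e : ℕ} (hn : 2 ≤ n) (hen : e ∣ n) (heN : e ∣ 2 ^ n - 1) :
    e < 2 ^ (n / 5) ∨ (n, e) ∈ [(2, 1), (3, 1), (4, 1), (6, 3), (18, 9)] := by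
  by_cases h25 : n < 25
  · have key : ∀ n < 25, ∀ e < 25, 2 ≤ n → n % e = 0 → (2 ^ n - 1) % e = 0 →
        e < 2 ^ (n / 5) ∨ (n, e) ∈ [(2, 1), (3, 1), (4, 1), (6, 3), (18, 9)] := by decide +kernel
    exact key n h25 e (lt_of_le_of_lt (Nat.le_of_dvd (by omega) hen) h25) hn (Nat.mod_eq_zero_of_dvd hen)
      (Nat.mod_eq_zero_of_dvd heN)
  · left
    have h1 := lt_two_pow (n / 5) (by omega)
    have h2 := Nat.le_of_dvd (by omega) hen
    omega

/-- The three congruences needed below. -/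
theorem congr_facts {n m e : ℕ} (hn : 2 ≤ n) (hen : e ∣ n) (hme : m * e = 2 ^ n - 1) :
    (∀ i < n, ∀ j < n, 2 ^ i ≡ 2 ^ j [MOD m] → i = j) ∧
    (∀ i < n, ∀ j < n, 2 ^ i + 2 ^ j ≡ 1 [MOD m] → i = j) ∧
    (∀ t < n, ∀ s < n, ∀ s₁ < n, 0 < s → 0 < s₁ →
      2 ^ t + 2 ^ s₁ ≡ 1 + 2 ^ ((t + s) % n) [MOD m] → s = s₁) := by
  have he0 : 0 < e := Nat.pos_of_dvd_of_pos hen (by omega)
  rcases index_small hn hen ⟨m, by rw [← hme, mul_comm]⟩ with he | he
  · have hg : 5 ≤ n := by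
      by_contra h
      rw [Nat.div_eq_of_lt (by omega), pow_zero] at he
      omega
    refine ⟨fun i hi j hj h => ?_, fun i hi j hj h => ?_, fun t ht s hs s₁ hs₁ hs0 hs10 h => ?_⟩
    · rcases four hme he0 he hi hi hj hj (h.add h) with h' | h' <;> exact h'.1
    · have hdvd : m ∣ 2 ^ n - 1 := ⟨e, hme.symm⟩
      have h' : 2 ^ ((i + 1) % n) + 2 ^ ((j + 1) % n) ≡ 2 ^ 0 + 2 ^ 0 [MOD m] := by
        refine ((pow_rot hdvd).add (pow_rot hdvd)).trans ?_
        rw [← add_mul, pow_zero]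
        exact h.mul_right 2
      have hmod : ∀ x, (x + 1) % n < n := fun x => Nat.mod_lt _ (by omega)
      rcases four hme he0 he (hmod i) (hmod j) (by omega) (by omega) h' with h'' | h''
      all_goals
        have e1 : (i + 1) % n = (j + 1) % n := h''.1.trans h''.2.symm
        exact (Nat.ModEq.add_right_cancel' 1 (show i + 1 ≡ j + 1 [MOD n] from e1)).eq_of_lt_of_lt hi hj
    · rcases four hme he0 he ht hs₁ (show 0 < n by omega) (Nat.mod_lt _ (by omega))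
        (by rwa [pow_zero]) with ⟨h1, h2⟩ | ⟨h1, h2⟩
      · rw [h1, zero_add, Nat.mod_eq_of_lt hs] at h2
        exact h2.symm
      · omega
  · have key : ∀ p ∈ [((2 : ℕ), (1 : ℕ)), (3, 1), (4, 1), (6, 3), (18, 9)],
        (∀ i < p.1, ∀ j < p.1, 2 ^ i % ((2 ^ p.1 - 1) / p.2) = 2 ^ j % ((2 ^ p.1 - 1) / p.2) → i = j) ∧
        (∀ i < p.1, ∀ j < p.1, (2 ^ i + 2 ^ j) % ((2 ^ p.1 - 1) / p.2) = 1 % ((2 ^ p.1 - 1) / p.2) → i = j) ∧
        (∀ t < p.1, ∀ s < p.1, ∀ s₁ < p.1, 0 < s → 0 < s₁ →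
          (2 ^ t + 2 ^ s₁) % ((2 ^ p.1 - 1) / p.2) = (1 + 2 ^ ((t + s) % p.1)) % ((2 ^ p.1 - 1) / p.2) →
          s = s₁) := by decide +kernel
    have h1 := key _ he
    rw [show (2 ^ n - 1) / e = m by rw [← hme, Nat.mul_div_cancel _ he0]] at h1
    exact h1

end Cfsg.Lib.SuzukiSolv.Arith
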