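import Cfsg.Agent.RankOne.FrobeniusSpan
import Cfsg.Agent.SuzukiSolv.Arith

/-!
Biadditive maps and modules of additive maps of a field, equivariant for a large cyclic group of scalars.
-/

set_option autoImplicit false
set_option linter.style.haveILetI false

namespace Cfsg.Lib.SuzukiSolv

universe u

variable {F : Type u} [Field F]

/-- The scalar separates automorphisms and their products in the sense needed below. -/
structure Good (ω : F) : Prop where
  ne_zero : ω ≠ 0
  ext : ∀ σ τ : F ≃+* F, σ ω = τ ω → σ = τ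
  prod : ∀ σ τ : F ≃+* F, σ ω * τ ω = ω → σ = τ
  conj : ∀ τ σ σ₁ : F ≃+* F, σ ≠ RingEquiv.refl F → σ₁ ≠ RingEquiv.refl F →
    τ ω * σ₁ ω = ω * τ (σ ω) → σ = σ₁

theorem zmod_two_cases : ∀ c : ZMod 2, c = 0 ∨ c = 1 := by decide

variable [Fintype F] [CharP F 2]

theorem card_aut {n : ℕ} (hn : Nat.card F = 2 ^ n) : Nat.card (F ≃+* F) = n := by
  let : Algebra (ZMod 2) F := ZMod.algebra F 2
  have : Fact (Nat.Prime 2) := ⟨Nat.prime_two⟩
  have hcardF : Nat.card F = 2 ^ Module.finrank (ZMod 2) F := by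
    rw [Module.natCard_eq_pow_finrank (K := ZMod 2), Nat.card_zmod]
  rw [Nat.pow_right_injective le_rfl (hn.symm.trans hcardF)]
  refine Eq.trans ?_ (IsGalois.card_aut_eq_finrank (ZMod 2) F)
  exact Nat.card_congr
    { toFun := fun e => AlgEquiv.ofRingEquiv (f := e) fun r =>
        DFunLike.congr_fun (Subsingleton.elim ((e : F →+* F).comp (algebraMap (ZMod 2) F)) (algebraMap (ZMod 2) F)) r
      invFun := fun e => e.toRingEquiv
      left_inv := fun _ => RingEquiv.ext fun _ => rfl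
      right_inv := fun _ => AlgEquiv.ext fun _ => rfl }

theorem exists_frob {n : ℕ} (hn : Nat.card F = 2 ^ n) (σ : F ≃+* F) :
    ∃ i < n, ∀ x, σ x = x ^ 2 ^ i := by
  let : Algebra (ZMod 2) F := ZMod.algebra F 2
  have : Fact (Nat.Prime 2) := ⟨Nat.prime_two⟩
  have hcardF : Nat.card F = 2 ^ Module.finrank (ZMod 2) F := by
    rw [Module.natCard_eq_pow_finrank (K := ZMod 2), Nat.card_zmod]
  have hfr := Nat.pow_right_injective le_rfl (hn.symm.trans hcardF)
  obtain ⟨⟨i, hi⟩, hσ⟩ := (FiniteField.bijective_frobeniusAlgEquivOfAlgebraic_pow (ZMod 2) F).2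
    (AlgEquiv.ofRingEquiv (f := σ) fun r =>
      DFunLike.congr_fun (Subsingleton.elim ((σ : F →+* F).comp (algebraMap (ZMod 2) F)) (algebraMap (ZMod 2) F)) r)
  refine ⟨i, by omega, fun x => ?_⟩
  have h1 := DFunLike.congr_fun hσ x
  simp only [AlgEquiv.coe_pow] at h1
  rw [FiniteField.coe_frobeniusAlgEquivOfAlgebraic_iterate, ZMod.card] at h1
  exact h1.symm

theorem aut_comm (σ τ : F ≃+* F) (x : F) : σ (τ x) = τ (σ x) := by
  obtain ⟨n, -, hn⟩ := FiniteField.card F 2
  obtain ⟨i, -, hi⟩ := exists_frob (n := n) (by rw [Nat.card_eq_fintype_card]; exact hn) σ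
  rw [hi, hi, map_pow]

/-- A large root of unity is a good scalar. -/
theorem good_of_orderOf {n m e : ℕ} (hn : Nat.card F = 2 ^ n) (hn2 : 2 ≤ n) (hen : e ∣ n)
    (hme : m * e = 2 ^ n - 1) {ω : F} (hω : orderOf ω = m) : Good ω ∧ ω ≠ 1 := by
  obtain ⟨A0, A1, A2⟩ := Arith.congr_facts hn2 hen hme
  have hN : 3 ≤ 2 ^ n - 1 := by
    have := Nat.pow_le_pow_right (show 0 < 2 by omega) hn2
    omega
  have hm0 : 0 < m := by
    rcases Nat.eq_zero_or_pos m with h | h
    · rw [h, zero_mul] at hme; omega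
    · exact h
  have hω0 : ω ≠ 0 := by
    rintro rfl
    rw [orderOf_zero] at hω
    omega
  have hpow : ∀ a b : ℕ, ω ^ a = ω ^ b → a ≡ b [MOD m] := by
    intro a b h
    have h' : Units.mk0 ω hω0 ^ a = Units.mk0 ω hω0 ^ b := Units.ext (by simpa using h)
    rw [pow_eq_pow_iff_modEq, ← orderOf_units, Units.val_mk0, hω] at h'
    exact h'
  have hfrob := exists_frob hn
  have hrot : ∀ a, ω ^ 2 ^ (a % n) = ω ^ 2 ^ a := by
    intro a
    conv_rhs => rw [← Nat.div_add_mod a n, pow_add, pow_mul, pow_mul]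
    congr 1
    symm
    induction a / n with
    | zero => simp
    | succ k ih => rw [pow_succ, pow_mul, ih, ← hn, Nat.card_eq_fintype_card, FiniteField.pow_card]
  refine ⟨⟨hω0, fun σ τ h => ?_, fun σ τ h => ?_, fun τ σ σ₁ hσ hσ₁ h => ?_⟩, ?_⟩
  · obtain ⟨i, hi, ei⟩ := hfrob σ
    obtain ⟨j, hj, ej⟩ := hfrob τ
    rw [ei, ej] at h
    obtain rfl := A0 i hi j hj (hpow _ _ h)
    exact RingEquiv.ext fun x => (ei x).trans (ej x).symm
  · obtain ⟨i, hi, ei⟩ := hfrob σ
    obtain ⟨j, hj, ej⟩ := hfrob τ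
    rw [ei, ej, ← pow_add] at h
    obtain rfl := A1 i hi j hj (hpow _ 1 (by rw [h, pow_one]))
    exact RingEquiv.ext fun x => (ei x).trans (ej x).symm
  · obtain ⟨t, ht, et⟩ := hfrob τ
    obtain ⟨s, hs, es⟩ := hfrob σ
    obtain ⟨s₁, hs₁, es₁⟩ := hfrob σ₁
    have hne : ∀ (ρ : F ≃+* F) (i : ℕ), ρ ≠ RingEquiv.refl F → (∀ x, ρ x = x ^ 2 ^ i) → 0 < i := by
      intro ρ i hρ hi
      refine Nat.pos_of_ne_zero fun h0 => hρ (RingEquiv.ext fun x => ?_)
      rw [hi, h0, pow_zero, pow_one, RingEquiv.refl_apply]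
    rw [et, et, es, es₁, ← pow_add, ← pow_mul, ← pow_add 2, ← hrot, add_comm s t, ← pow_succ'] at h
    obtain rfl := A2 t ht s hs s₁ hs₁ (hne σ s hσ es) (hne σ₁ s₁ hσ₁ es₁)
      ((hpow _ _ h).trans (by rw [add_comm]))
    exact RingEquiv.ext fun x => (es x).trans (es₁ x).symm
  · intro h1
    rw [h1, orderOf_one] at hω
    have := A0 0 (by omega) 1 (by omega) (by rw [← hω]; exact Nat.modEq_one)
    omega

/-- Additive generation of the field by powers of a separating element. -/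
theorem span_induct {ω : F} (hext : ∀ σ τ : F ≃+* F, σ ω = τ ω → σ = τ) (P : F → Prop) (h0 : P 0)
    (hadd : ∀ a b, P a → P b → P (a + b)) (h1 : P 1) (hmul : ∀ a, P a → P (ω * a)) : ∀ x, P x := by
  let : Algebra (ZMod 2) F := ZMod.algebra F 2
  have : Fact (Nat.Prime 2) := ⟨Nat.prime_two⟩
  have htop : IntermediateField.adjoin (ZMod 2) ({ω} : Set F) = ⊤ := by
    have hfix : (IntermediateField.adjoin (ZMod 2) ({ω} : Set F)).fixingSubgroup = ⊥ := by
      rw [Subgroup.eq_bot_iff_forall]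
      intro f hf
      rw [IntermediateField.mem_fixingSubgroup_iff] at hf
      have h := hext f.toRingEquiv (RingEquiv.refl F) (hf ω (IntermediateField.mem_adjoin_simple_self _ ω))
      exact AlgEquiv.ext fun x => RingEquiv.congr_fun h x
    rw [← IsGalois.fixedField_fixingSubgroup (IntermediateField.adjoin (ZMod 2) ({ω} : Set F)), hfix,
      IntermediateField.fixedField_bot]
  intro x
  have hx : x ∈ Algebra.adjoin (ZMod 2) ({ω} : Set F) := by
    rw [← IntermediateField.adjoin_simple_toSubalgebra_of_isAlgebraic (Algebra.IsAlgebraic.isAlgebraic ω), htop]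
    exact IntermediateField.mem_top
  rw [Algebra.adjoin_singleton_eq_range_aeval] at hx
  obtain ⟨r, rfl⟩ := hx
  show P (Polynomial.aeval ω r)
  have hpw : ∀ k : ℕ, P (ω ^ k) := by
    intro k
    induction k with
    | zero => rwa [pow_zero]
    | succ k ih => rw [pow_succ']; exact hmul _ ih
  induction r using Polynomial.induction_on' with
  | add p q hp hq => rw [map_add]; exact hadd _ _ hp hq
  | monomial k c =>
    rw [Polynomial.aeval_monomial]
    obtain rfl | rfl := zmod_two_cases c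
    · simpa using h0
    · simpa using hpw k

theorem isSquare_all (x : F) : ∃ y, y * y = x := by
  obtain ⟨y, hy⟩ := FiniteField.isSquare_of_char_two (ringChar.eq F 2) x
  exact ⟨y, hy.symm⟩

/-- An alternating biadditive map equivariant for a good scalar vanishes. -/
theorem alternating_eq_zero (B : F → F → F) (hl : ∀ a b c, B (a + b) c = B a c + B b c)
    (hr : ∀ a b c, B a (b + c) = B a b + B a c) (halt : ∀ a, B a a = 0)
    {ω : F} (hgood : Good ω)
    (hK : ∀ a b, B (ω * a) (ω * b) = ω * B a b) : ∀ a b, B a b = 0 := by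
  classical
  have : Finite (F ≃+* F) := Finite.of_injective (fun e => (e : F → F)) DFunLike.coe_injective
  let : Fintype (F ≃+* F) := Fintype.ofFinite _
  have hindep : ∀ c : (F ≃+* F) → F, (∀ x, ∑ σ, c σ * σ x = 0) → ∀ σ, c σ = 0 := fun c hc σ =>
    Fintype.linearIndependent_iff.1 (Cfsg.Lib.RankOne.aut_indep (F := F)) c (funext fun x => by simpa using hc x) σ
  have hex : ∀ f : F →+ F, ∃ c : (F ≃+* F) → F, ∀ x, f x = ∑ σ, c σ * σ x := fun f =>
    (Cfsg.Lib.RankOne.aut_span f).imp fun c h x => by rw [h, finsum_eq_sum_of_fintype]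
  choose d hd using fun x => hex (AddMonoidHom.mk' (B x) (hr x))
  have hdadd : ∀ τ x x', d (x + x') τ = d x τ + d x' τ := by
    intro τ x x'
    refine sub_eq_zero.mp (hindep (fun τ => d (x + x') τ - (d x τ + d x' τ)) (fun y => ?_) τ)
    simp only [sub_mul, add_mul, Finset.sum_sub_distrib, Finset.sum_add_distrib, ← hd]
    exact sub_eq_zero.mpr (hl x x' y)
  choose c hc using fun τ => hex (AddMonoidHom.mk' (fun x => d x τ) (hdadd τ))
  have hB : ∀ x y, B x y = ∑ τ, ∑ σ, c τ σ * σ x * τ y := fun x y =>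
    (hd x y).trans (Finset.sum_congr rfl fun τ _ => by rw [show d x τ = _ from hc τ x, Finset.sum_mul])
  have hoff : ∀ τ σ, σ ≠ τ → c τ σ = 0 := by
    intro τ σ hne
    have h1 : ∀ x τ, ∑ σ, c τ σ * (σ ω * τ ω - ω) * σ x = 0 := by
      intro x
      refine hindep _ fun y => ?_
      calc ∑ τ, (∑ σ, c τ σ * (σ ω * τ ω - ω) * σ x) * τ y
          = B (ω * x) (ω * y) - ω * B x y := by
            simp only [hB, Finset.mul_sum, Finset.sum_mul, ← Finset.sum_sub_distrib]
            refine Finset.sum_congr rfl fun τ _ => Finset.sum_congr rfl fun σ _ => ?_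
            rw [map_mul, map_mul]
            ring
        _ = 0 := sub_eq_zero.mpr (hK x y)
    rcases mul_eq_zero.mp (hindep _ (fun x => h1 x τ) σ) with h | h
    · exact h
    · exact absurd (hgood.prod σ τ (sub_eq_zero.mp h)) hne
  have hdiag : ∀ σ, c σ σ = 0 := by
    refine hindep _ fun z => ?_
    obtain ⟨x, rfl⟩ := isSquare_all z
    rw [← halt x, hB]
    refine Finset.sum_congr rfl fun σ _ => ?_
    rw [Finset.sum_eq_single σ (fun τ _ h => by rw [hoff σ τ h, zero_mul, zero_mul]) (by simp), map_mul, mul_assoc]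
  intro x y
  rw [hB]
  refine Finset.sum_eq_zero fun τ _ => Finset.sum_eq_zero fun σ _ => ?_
  by_cases h : σ = τ
  · rw [h, hdiag, zero_mul, zero_mul]
  · rw [hoff τ σ h, zero_mul, zero_mul]

/-- In an irreducible module of additive maps under conjugation by a generator, nonzero maps are injective. -/
theorem injective_of_minimal (M : AddSubgroup (F →+ F)) (ω : F) (hgood : Good ω)
    (hT : ∀ π ∈ M, ∃ π' ∈ M, ∀ x, π' (ω * x) = ω * π x)
    (hfix : ∀ π ∈ M, (∀ x, π (ω * x) = ω * π x) → π = 0)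
    (hmin : ∀ N : AddSubgroup (F →+ F), N ≤ M →
      (∀ π ∈ N, ∀ π' ∈ M, ∀ (a : F) (τ : F ≃+* F), a ≠ 0 →
        (∀ x, π' (a * τ x) = a * τ (π x)) → π' ∈ N) → N = ⊥ ∨ N = M) :
    ∀ π ∈ M, π ≠ 0 → Function.Injective π := by
  classical
  have hω := hgood.ne_zero
  haveI : Finite (F ≃+* F) := Finite.of_injective (fun e => (e : F → F)) DFunLike.coe_injective
  letI : Fintype (F ≃+* F) := Fintype.ofFinite _
  haveI : Fact (Nat.Prime 2) := ⟨Nat.prime_two⟩
  letI : Algebra (ZMod 2) F := ZMod.algebra F 2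
  have hex : ∀ f : F →+ F, ∃ c : (F ≃+* F) → F, ∀ x, f x = ∑ σ, c σ * σ x := fun f =>
    (Cfsg.Lib.RankOne.aut_span f).imp fun c h x => by rw [h, finsum_eq_sum_of_fintype]
  choose coef hcoef using hex
  have huniq : ∀ (f : F →+ F) (c : (F ≃+* F) → F), (∀ x, f x = ∑ σ, c σ * σ x) → coef f = c := by
    intro f c hc
    funext σ
    refine sub_eq_zero.1 (Fintype.linearIndependent_iff.1 (Cfsg.Lib.RankOne.aut_indep (F := F))
      (coef f - c) (funext fun x => ?_) σ)
    have := (hcoef f x).symm.trans (hc x)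
    simp [sub_mul, Finset.sum_sub_distrib, this]
  have hcz : coef 0 = 0 := huniq _ _ fun x => by simp
  have hca : ∀ f g, coef (f + g) = coef f + coef g := fun f g => huniq _ _ fun x => by
    simp [hcoef f x, hcoef g x, add_mul, Finset.sum_add_distrib]
  have hext : ∀ f g, coef f = coef g → f = g := fun f g h => AddMonoidHom.ext fun x => by
    rw [hcoef, hcoef, h]
  have hsemi : ∀ (f g : F →+ F) (b : F) (τ : F ≃+* F), b ≠ 0 → (∀ x, g (b * τ x) = b * τ (f x)) →
      coef g = fun σ => b * τ (coef f σ) / σ b := by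
    intro f g b τ hb h
    refine huniq _ _ fun x => ?_
    obtain ⟨z, hz⟩ : ∃ z, b * τ z = x := ⟨τ.symm (x / b), by rw [τ.apply_symm_apply, mul_div_cancel₀ _ hb]⟩
    conv_lhs => rw [← hz, h, hcoef, map_sum, Finset.mul_sum]
    refine Finset.sum_congr rfl fun σ _ => ?_
    rw [map_mul, ← hz, map_mul, ← aut_comm τ σ z]
    have := (map_ne_zero σ).mpr hb
    field_simp
  let a : (F ≃+* F) → F := fun σ => ω / σ ω
  have hσω : ∀ σ : F ≃+* F, σ ω ≠ 0 := fun σ => (map_ne_zero σ).mpr hω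
  have hTc : ∀ f g : F →+ F, (∀ x, g (ω * x) = ω * f x) → coef g = fun σ => a σ * coef f σ := by
    intro f g h
    refine huniq _ _ fun x => ?_
    conv_lhs => rw [← mul_div_cancel₀ x hω, h, hcoef, Finset.mul_sum]
    refine Finset.sum_congr rfl fun σ _ => ?_
    rw [map_div₀]
    simp only [a]
    field_simp
  have hpoly : ∀ (r : Polynomial (ZMod 2)), ∀ π ∈ M,
      ∃ π' ∈ M, coef π' = fun σ => Polynomial.aeval (a σ) r * coef π σ := by
    intro r
    induction r using Polynomial.induction_on with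
    | C c =>
      intro π hπ
      refine ⟨c.val • π, M.nsmul_mem hπ _, huniq _ _ fun x => ?_⟩
      rw [AddMonoidHom.nsmul_apply, hcoef, Finset.smul_sum]
      refine Finset.sum_congr rfl fun σ _ => ?_
      rw [Polynomial.aeval_C, nsmul_eq_mul, ← mul_assoc, ← map_natCast (algebraMap (ZMod 2) F),
        ZMod.natCast_zmod_val]
    | add p q hp hq =>
      intro π hπ
      obtain ⟨f, hf, ef⟩ := hp π hπ
      obtain ⟨g, hg, eg⟩ := hq π hπ
      exact ⟨f + g, M.add_mem hf hg, by rw [hca, ef, eg]; funext σ; simp [add_mul]⟩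
    | monomial n c ih =>
      intro π hπ
      obtain ⟨f, hf, ef⟩ := ih π hπ
      obtain ⟨g, hg, eg⟩ := hT f hf
      refine ⟨g, hg, ?_⟩
      rw [hTc f g eg, ef]
      funext σ
      simp [pow_succ]
      ring
  have hsupp : ∀ π ∈ M, ∀ σ, coef π σ ≠ 0 → ∀ f ∈ M, coef f σ = 0 → f = 0 := by
    intro π hπ σ hσ f hf hfσ
    let N : AddSubgroup (F →+ F) :=
      { carrier := {g | g ∈ M ∧ coef g σ = 0}
        zero_mem' := ⟨M.zero_mem, by rw [hcz]; rfl⟩
        add_mem' := fun {g h} hg hh => ⟨M.add_mem hg.1 hh.1, by rw [hca, Pi.add_apply, hg.2, hh.2, add_zero]⟩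
        neg_mem' := fun {g} hg => ⟨M.neg_mem hg.1, by
          have := congrFun (hca g (-g)) σ
          rw [add_neg_cancel, hcz, Pi.add_apply, hg.2, zero_add] at this
          exact this.symm⟩ }
    rcases hmin N (fun g hg => hg.1) (fun g hg g' hg' b τ hb h =>
      ⟨hg', by rw [hsemi g g' b τ hb h]; show b * τ (coef g σ) / σ b = 0; simp [hg.2]⟩) with h | h
    · exact AddSubgroup.mem_bot.mp (h ▸ (show f ∈ N from ⟨hf, hfσ⟩))
    · exact absurd (h.symm ▸ hπ : π ∈ N).2 hσ
  intro π hπ hne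
  have hkill : ∀ σ, coef π σ ≠ 0 → ∀ r : Polynomial (ZMod 2), Polynomial.aeval (a σ) r = 0 →
      ∀ σ', coef π σ' ≠ 0 → Polynomial.aeval (a σ') r = 0 := by
    intro σ hσ r hr σ' hσ'
    obtain ⟨f, hf, ef⟩ := hpoly r π hπ
    have hf0 := hsupp π hπ σ hσ f hf (by rw [ef]; show _ * _ = 0; rw [hr, zero_mul])
    rw [hf0, hcz] at ef
    exact (mul_eq_zero.mp (congrFun ef σ').symm).resolve_right hσ'
  have hext' := hgood.ext
  have hone : coef π (RingEquiv.refl F) = 0 := by
    by_contra h1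
    refine hne (hfix π hπ fun x => ?_)
    have h0 : ∀ σ, coef π σ ≠ 0 → σ = RingEquiv.refl F := fun σ hσ => by
      have := hkill _ h1 (Polynomial.X - 1) (by simp [a, div_self hω]) σ hσ
      rw [map_sub, Polynomial.aeval_X, map_one, sub_eq_zero, div_eq_one_iff_eq (hσω σ)] at this
      exact hext' σ (RingEquiv.refl F) this.symm
    rw [hcoef, hcoef, Finset.mul_sum]
    refine Finset.sum_congr rfl fun σ _ => ?_
    by_cases hσ : coef π σ = 0
    · simp [hσ]
    · obtain rfl := h0 σ hσ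
      simp only [RingEquiv.refl_apply]
      ring
  obtain ⟨σ₁, h₁⟩ : ∃ σ, coef π σ ≠ 0 := by
    by_contra hno
    push Not at hno
    exact hne (hext π 0 (by rw [hcz]; funext σ; exact hno σ))
  have honly : ∀ σ, coef π σ ≠ 0 → σ = σ₁ := by
    intro σ hσ
    have hint : IsIntegral (ZMod 2) (a σ₁) := Algebra.IsIntegral.isIntegral _
    obtain ⟨τ, hτ⟩ := minpoly.exists_algEquiv_of_root hint.isAlgebraic
      (hkill σ₁ h₁ (minpoly (ZMod 2) (a σ₁)) (minpoly.aeval _ _) σ hσ)
    have hrel : τ ω * σ₁ ω = ω * τ (σ ω) := by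
      simp only [a, map_div₀] at hτ
      rwa [div_eq_div_iff ((map_ne_zero τ).mpr (hσω σ)) (hσω σ₁)] at hτ
    exact hgood.conj τ.toRingEquiv σ σ₁ (fun e => hσ (e ▸ hone)) (fun e => h₁ (e ▸ hone)) hrel
  refine (injective_iff_map_eq_zero π).mpr fun x hx => ?_
  rw [hcoef, Finset.sum_eq_single σ₁ (fun σ _ h => ?_) (by simp), mul_eq_zero, map_eq_zero] at hx
  · exact hx.resolve_left h₁
  · rw [not_imp_comm.mp (honly σ) h, zero_mul]

end Cfsg.Lib.SuzukiSolv
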