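import Cfsg.Agent.SuzukiSolv.Center

/-!
Squares and commutators of a Suzuki 2-group are central.
-/

set_option autoImplicit false
set_option linter.style.haveILetI false
set_option maxHeartbeats 800000

namespace Cfsg.Lib.SuzukiSolv

open scoped commutatorElement

universe u v

section Square

variable {P : Type u} [Group P]

theorem comm_eq_squares (a b : P) : ⁅a, b⁆ = a * a * (a⁻¹ * b * (a⁻¹ * b)) * (b⁻¹ * b⁻¹) := by
  rw [commutatorElement_def]
  group

theorem comm_central_mul {c a x : P} (hc : c ∈ Subgroup.center P) : ⁅c * a, x⁆ = ⁅a, x⁆ := by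
  rw [commutatorElement_mul_left_eq_conj_mul, comm_central hc, mul_one,
    ← Subgroup.mem_center_iff.mp hc, mul_inv_cancel_right]

theorem comm_mul_central {c a x : P} (hc : c ∈ Subgroup.center P) : ⁅x, c * a⁆ = ⁅x, a⁆ := by
  rw [← inv_inj, commutatorElement_inv, commutatorElement_inv, comm_central_mul hc]

end Square

variable {K : Type v} [Group K] [Finite K]

/-- If the involutions are central and permuted transitively, and there are at least two, squares are central. -/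
theorem sq_mem_center (hK : Group.IsSolvable K) {P : Type u} [Group P] [Finite P] (hP : IsPGroup 2 P) {ρ : K →* MulAut P}
    (h : InvolTrans ρ) (hnab : ∃ x y : P, x * y ≠ y * x)
    (htwo : ∃ x y : P, x ≠ y ∧ x ≠ 1 ∧ x * x = 1 ∧ y ≠ 1 ∧ y * y = 1) :
    ∀ x : P, x * x ∈ Subgroup.center P := by
  classical
  set Z := Subgroup.center P with hZdef
  have hzc : ∀ a ∈ Z, ∀ b, b * a = a * b := fun a ha => Subgroup.mem_center_iff.mp ha
  have hZ2 : ∀ z ∈ Z, z * z = 1 := center_sq_eq_one hK hP h hnab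
  by_cases hcl : ∀ a b : P, ⁅a, b⁆ ∈ Z
  · intro x
    rw [Subgroup.mem_center_iff]
    intro b
    refine (commutatorElement_eq_one_iff_commute.mp ?_).eq.symm
    rw [comm_mul_left (hcl x b), hZ2 _ (hcl x b)]
  push Not at hcl
  exfalso
  -- coordinates on the centre
  obtain ⟨t₁, t₂, ht12, ht1, ht1', ht2, ht2'⟩ := htwo
  obtain ⟨F, i1, i2, i3, E, f, ω, k₀, hgood, hk₀, hne1, hsemi, hfinv, hftr, hEadd, hE0, hEρ, hEsurj⟩ :=
    exists_coord hK h ht1 ht1'
  have hE1 : E 1 = 0 := by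
    have := hEadd 1 1 (one_mul 1) (one_mul 1)
    rw [one_mul] at this
    simpa using this
  have hEeq : ∀ u v : P, u * u = 1 → v * v = 1 → E u = E v → u = v := fun u v hu hv e => by
    have h1 := hE0 (u * v) ((omega h).mul_mem hu hv) (by rw [hEadd u v hu hv, e, CharTwo.add_self_eq_zero])
    rw [mul_eq_one_iff_eq_inv, inv_eq_of_sq hv] at h1
    exact h1
  have hEZ : ∀ a ∈ Z, ∀ b ∈ Z, E (a * b) = E a + E b := fun a ha b hb => hEadd a b (hZ2 a ha) (hZ2 b hb)
  have hω0 := hgood.ne_zero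
  have hω1 : ω ≠ 1 := hne1 (by
    by_contra hno
    push Not at hno
    exact ht12 (hEeq _ _ ht1' ht2' ((hno _ (fun e0 => ht1 (hE0 _ ht1' e0))).trans
      (hno _ (fun e0 => ht2 (hE0 _ ht2' e0))).symm)))
  -- the second layer
  let W : Subgroup P :=
    { carrier := {w | ∀ b, ⁅w, b⁆ ∈ Z}
      one_mem' := fun b => by simp [commutatorElement_def]
      mul_mem' := fun {a b} ha hb c => by
        rw [comm_mul_left (hb c)]
        exact mul_mem (ha c) (hb c)
      inv_mem' := fun {a} ha c => by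
        have e := comm_mul_left (a := a⁻¹) (ha c)
        rw [inv_mul_cancel, commutatorElement_one_left, eq_comm, mul_eq_one_iff_eq_inv] at e
        rw [e]
        exact inv_mem (ha c) }
  have hZW : Z ≤ W := fun a ha b => by rw [comm_central ha]; exact one_mem _
  have hWr : ∀ a : P, ∀ w ∈ W, ⁅a, w⁆ ∈ Z := fun a w hw => by
    rw [← commutatorElement_inv]
    exact inv_mem (hw a)
  have hWsq : ∀ w ∈ W, w * w ∈ Z := fun w hw => by
    rw [Subgroup.mem_center_iff]
    intro b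
    refine (commutatorElement_eq_one_iff_commute.mp ?_).eq.symm
    rw [comm_mul_left (hw b), hZ2 _ (hw b)]
  have hWinv : ∀ k, ∀ w ∈ W, ρ k w ∈ W := fun k w hw b => by
    rw [← (ρ k).apply_symm_apply b, ← map_commutatorElement]
    exact center_invariant ρ k (hw _)
  have hWconj : ∀ b : P, ∀ w ∈ W, b * w * b⁻¹ = ⁅b, w⁆ * w := fun b w _ => by
    rw [commutatorElement_def]
    group
  have hWn : ∀ b : P, ∀ w ∈ W, b * w * b⁻¹ ∈ W := fun b w hw => by
    rw [hWconj b w hw]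
    exact W.mul_mem (hZW (hWr b w hw)) hw
  -- an element of the second layer outside the centre, commuting with the layer
  obtain ⟨d₀, hd₀, hd₀Z, hd₀c⟩ : ∃ d ∈ W, d ∉ Z ∧ ∀ w ∈ W, Commute d w := by
    obtain ⟨a', b', hab'⟩ := hcl
    have hqZ : ∀ x : P, (x : P ⧸ Z) = 1 ↔ x ∈ Z := fun x => QuotientGroup.eq_one_iff x
    haveI : Nontrivial ((P ⧸ Z) ⧸ Subgroup.center (P ⧸ Z)) :=
      ⟨⟨((a' : P ⧸ Z) : _ ⧸ _), 1, fun e => hab' ((hqZ _).mp (by
        rw [← QuotientGroup.mk'_apply, map_commutatorElement]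
        exact comm_central ((QuotientGroup.eq_one_iff _).mp e)))⟩⟩
    haveI := ((hP.to_quotient Z).to_quotient (Subgroup.center (P ⧸ Z))).center_nontrivial
    obtain ⟨⟨qq, hqq⟩, hqq1⟩ := exists_ne (1 : Subgroup.center ((P ⧸ Z) ⧸ Subgroup.center (P ⧸ Z)))
    obtain ⟨q, rfl⟩ := QuotientGroup.mk_surjective qq
    obtain ⟨a, rfl⟩ := QuotientGroup.mk_surjective q
    obtain ⟨b, hb⟩ : ∃ b : P, ⁅a, b⁆ ∉ Z := by
      by_contra hno
      push Not at hno
      refine hqq1 (Subtype.ext ((QuotientGroup.eq_one_iff _).mpr ?_))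
      rw [Subgroup.mem_center_iff]
      intro r
      obtain ⟨b, rfl⟩ := QuotientGroup.mk_surjective r
      refine (commutatorElement_eq_one_iff_commute.mp ?_).eq.symm
      rw [← QuotientGroup.mk'_apply, ← QuotientGroup.mk'_apply Z b, ← map_commutatorElement]
      exact (hqZ _).mpr (hno b)
    have hcc : ((⁅a, b⁆ : P) : P ⧸ Z) ∈ Subgroup.center (P ⧸ Z) := by
      rw [← QuotientGroup.eq_one_iff, ← QuotientGroup.mk'_apply, ← QuotientGroup.mk'_apply Z, map_commutatorElement,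
        map_commutatorElement]
      exact comm_central hqq
    refine ⟨⁅a, b⁆, fun c => (hqZ _).mp ?_, hb, fun w hw => ?_⟩
    · rw [← QuotientGroup.mk'_apply, map_commutatorElement]
      exact comm_central hcc
    · have e : w * ⁅a, b⁆ * w⁻¹ = ⁅a, b⁆ := by
        have e1 := map_commutatorElement (MulAut.conj w).toMonoidHom a b
        simp only [MulEquiv.coe_toMonoidHom, MulAut.conj_apply] at e1
        rw [e1, show w * a * w⁻¹ = ⁅w, a⁆ * a by rw [commutatorElement_def]; group,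
          show w * b * w⁻¹ = ⁅w, b⁆ * b by rw [commutatorElement_def]; group, comm_central_mul (hw a),
          comm_mul_central (hw b)]
      exact (mul_inv_eq_iff_eq_mul.mp e).symm
  have hd₀2 : d₀ * d₀ ≠ 1 := fun e => hd₀Z (h.central _ e)
  have hsurj1 : ∀ u, u ≠ 1 → u * u = 1 → ∃ v ∈ W, v * v = u ∧ ∀ w ∈ W, Commute v w := by
    intro u hu hu2
    obtain ⟨k, hk⟩ := h.trans _ u hd₀2 (hZ2 _ (hWsq _ hd₀)) hu hu2
    refine ⟨ρ k d₀, hWinv k _ hd₀, by rw [← map_mul, hk], fun w hw => ?_⟩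
    have h1 := hd₀c ((ρ k).symm w) (by
      intro b
      have h2 := center_invariant ρ k⁻¹ (hw (ρ k b))
      rw [map_commutatorElement] at h2
      have e : ∀ x, ρ k⁻¹ x = (ρ k).symm x := fun x => by rw [map_inv]; rfl
      rw [e, e, MulEquiv.symm_apply_apply] at h2
      exact h2)
    simpa using h1.map (ρ k)
  have hWab : ∀ a ∈ W, ∀ b ∈ W, Commute a b := by
    intro a ha b hb
    by_cases ha2 : a * a = 1
    · exact (hzc a (h.central a ha2) b).symm
    obtain ⟨v, hv, hvv, hvc⟩ := hsurj1 _ ha2 (hZ2 _ (hWsq a ha))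
    have h2 : a * v⁻¹ * (a * v⁻¹) = 1 := by
      rw [((hvc a ha).inv_left).mul_mul_mul_comm a v⁻¹, ← mul_inv_rev, hvv, mul_inv_cancel]
    have h3 := hvc b hb
    simpa using (show Commute (a * v⁻¹) b from (hzc _ (h.central _ h2) b).symm).mul_left h3
  -- the square map on the layer
  let φ : P → F := fun w => E (w * w)
  have hφmul : ∀ a ∈ W, ∀ b ∈ W, φ (a * b) = φ a + φ b := fun a ha b hb => by
    show E (a * b * (a * b)) = _
    rw [(hWab b hb a ha).mul_mul_mul_comm a b, hEZ _ (hWsq a ha) _ (hWsq b hb)]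
  have hφ0 : ∀ w ∈ W, φ w = 0 → w ∈ Z := fun w hw e => h.central w (hE0 _ (hZ2 _ (hWsq w hw)) e)
  have hφZ : ∀ z ∈ Z, φ z = 0 := fun z hz => by
    show E (z * z) = 0
    rw [hZ2 z hz, hE1]
  have hφρ : ∀ k, ∀ w ∈ W, φ (ρ k w) = f k (φ w) := fun k w hw => by
    show E (ρ k w * ρ k w) = _
    rw [← map_mul, hEρ k _ (hZ2 _ (hWsq w hw))]
  have hφinv : ∀ w ∈ W, φ w⁻¹ = φ w := fun w hw => by
    show E (w⁻¹ * w⁻¹) = E (w * w)
    rw [← mul_inv_rev, inv_eq_of_sq (hZ2 _ (hWsq w hw))]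
  have hφconj : ∀ b : P, ∀ w ∈ W, φ (b * w * b⁻¹) = φ w := fun b w hw => by
    rw [hWconj b w hw, hφmul _ (hZW (hWr b w hw)) _ hw, hφZ _ (hWr b w hw), zero_add]
  have hsec : ∀ x : F, ∃ w ∈ W, φ w = x := by
    intro x
    obtain ⟨u, hu, rfl⟩ := hEsurj x
    by_cases hu1 : u = 1
    · exact ⟨1, one_mem _, by rw [hφZ 1 (one_mem _), hu1, hE1]⟩
    obtain ⟨v, hv, hvv, -⟩ := hsurj1 u hu1 hu
    exact ⟨v, hv, by show E (v * v) = E u; rw [hvv]⟩
  choose tw htw htwE using hsec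
  have hdep : ∀ y : P, ∀ w ∈ W, E ⁅y, w⁆ = E ⁅y, tw (φ w)⁆ := by
    intro y w hw
    have hz : (tw (φ w))⁻¹ * w ∈ Z := hφ0 _ (mul_mem (inv_mem (htw _)) hw) (by
      rw [hφmul _ (inv_mem (htw _)) _ hw, hφinv _ (htw _), htwE, CharTwo.add_self_eq_zero])
    conv_lhs => rw [← mul_inv_cancel_left (tw (φ w)) w]
    rw [comm_mul_right (hWr y _ (hZW hz)), show ⁅y, (tw (φ w))⁻¹ * w⁆ = 1 by
      rw [← commutatorElement_inv, comm_central hz, inv_one], mul_one]
  let π : P → F →+ F := fun y => AddMonoidHom.mk' (fun x => E ⁅y, tw x⁆) fun x x' => by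
    have e : x + x' = φ (tw x * tw x') := by rw [hφmul _ (htw x) _ (htw x'), htwE, htwE]
    show E _ = E _ + E _
    rw [e, ← hdep y _ (mul_mem (htw x) (htw x')), comm_mul_right (hWr y _ (htw x')),
      hEZ _ (hWr y _ (htw x)) _ (hWr y _ (htw x'))]
  have hπ : ∀ y : P, ∀ w ∈ W, π y (φ w) = E ⁅y, w⁆ := fun y w hw => (hdep y w hw).symm
  have hπmul : ∀ y y' : P, π (y * y') = π y + π y' := fun y y' => AddMonoidHom.ext fun x => by
    show E ⁅y * y', tw x⁆ = E _ + E _
    rw [comm_mul_left (hWr y' _ (htw x)), hEZ _ (hWr y _ (htw x)) _ (hWr y' _ (htw x))]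
  have hπone : π 1 = 0 := AddMonoidHom.ext fun x => by
    show E ⁅(1 : P), tw x⁆ = 0
    rw [commutatorElement_one_left, hE1]
  have hself : ∀ f : F →+ F, f + f = 0 := fun f => AddMonoidHom.ext fun x => CharTwo.add_self_eq_zero (f x)
  have hπinv : ∀ y, π y⁻¹ = π y := fun y => by
    have e := hπmul y⁻¹ y
    rw [inv_mul_cancel, hπone] at e
    calc π y⁻¹ = π y⁻¹ + (π y + π y) := by rw [hself, add_zero]
      _ = π y := by rw [← add_assoc, ← e, zero_add]
  have hπρ : ∀ k y x, π (ρ k y) (f k x) = f k (π y x) := fun k y x => by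
    rw [← htwE x, ← hφρ k _ (htw x), hπ _ _ (hWinv k _ (htw x)), hπ y _ (htw x), ← map_commutatorElement,
      hEρ k _ (hZ2 _ (hWr y _ (htw x)))]
  let C : Subgroup P := Subgroup.centralizer (W : Set P)
  have hC : ∀ y, y ∈ C ↔ π y = 0 := by
    intro y
    refine ⟨fun hy => AddMonoidHom.ext fun x => ?_, fun hy => Subgroup.mem_centralizer_iff.mpr fun w hw => ?_⟩
    · show E ⁅y, tw x⁆ = 0
      rw [commutatorElement_eq_one_iff_commute.mpr (Subgroup.mem_centralizer_iff.mp hy _ (htw x)).symm, hE1]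
    · exact (commutatorElement_eq_one_iff_commute.mp (hE0 _ (hZ2 _ (hWr y w hw))
        (by rw [← hπ y w hw, hy]; rfl))).eq.symm
  have hsqC : ∀ y, y * y ∈ C := fun y => (hC _).mpr (by rw [hπmul, hself])
  have hWC : W ≤ C := fun w hw => Subgroup.mem_centralizer_iff.mpr fun x hx => hWab x hx w hw
  have hπρ₀ : ∀ y x, π (ρ k₀ y) (ω * x) = ω * π y x := fun y x => by rw [← hk₀, hπρ, hk₀]
  have hCinv : ∀ k, ∀ c ∈ C, ρ k c ∈ C := fun k c hc => (hC _).mpr (AddMonoidHom.ext fun x => by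
    rw [← hfinv k x, hπρ, (hC c).mp hc]
    simp)
  have hCn : ∀ b : P, ∀ c ∈ C, b * c * b⁻¹ ∈ C := fun b c hc => (hC _).mpr (by
    rw [hπmul, hπmul, hπinv, (hC c).mp hc, add_zero, hself])
  obtain ⟨y₀, hy₀⟩ : ∃ y, π y ≠ 0 := by
    by_contra hno
    push Not at hno
    refine hd₀Z (Subgroup.mem_center_iff.mpr fun b => ?_)
    exact (Subgroup.mem_centralizer_iff.mp ((hC b).mpr (hno b)) d₀ hd₀).symm
  -- the centralizer of the layer is abelian
  have hCab : ∀ a ∈ C, ∀ b ∈ C, Commute a b := by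
    by_contra hno
    push Not at hno
    obtain ⟨a, ha, b, hb, hab⟩ := hno
    refine hd₀2 (congrArg Subtype.val (center_sq_eq_one hK (hP.to_subgroup C) (h.restrict C hCinv)
      ⟨⟨a, ha⟩, ⟨b, hb⟩, fun e => hab (congrArg Subtype.val e)⟩ ⟨d₀, hWC hd₀⟩
      (Subgroup.mem_center_iff.mpr fun c => Subtype.ext ?_)))
    exact (Subgroup.mem_centralizer_iff.mp c.2 d₀ hd₀).symm
  have hC4 : ∀ c ∈ C, c * c * (c * c) = 1 → c ∈ W := by
    intro c hc hc4
    obtain ⟨w, hw, hww⟩ : ∃ w ∈ W, w * w = c * c := by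
      by_cases hc2 : c * c = 1
      · exact ⟨1, one_mem _, by rw [one_mul, hc2]⟩
      obtain ⟨v, hv, hvv, -⟩ := hsurj1 _ hc2 hc4
      exact ⟨v, hv, hvv⟩
    have h2 : c * w⁻¹ * (c * w⁻¹) = 1 := by
      rw [((hCab c hc w (hWC hw)).symm.inv_left).mul_mul_mul_comm c w⁻¹, ← mul_inv_rev, hww, mul_inv_cancel]
    simpa using W.mul_mem (hZW (h.central _ h2)) hw
  by_cases hbig : ∃ c ∈ C, c * c * (c * c) ≠ 1
  · -- a large centralizer
    obtain ⟨e, he⟩ : ∃ e, Monoid.exponent C = 2 ^ e := by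
      obtain ⟨t, ht⟩ := IsPGroup.iff_card.mp (hP.to_subgroup C)
      obtain ⟨s, -, hs⟩ := (Nat.dvd_prime_pow Nat.prime_two).mp (ht ▸ Group.exponent_dvd_nat_card : Monoid.exponent C ∣ 2 ^ t)
      exact ⟨s, hs⟩
    have hall : ∀ c ∈ C, c ^ 2 ^ e = 1 := fun c hc =>
      congrArg Subtype.val (he ▸ Monoid.pow_exponent_eq_one (⟨c, hc⟩ : C) : (⟨c, hc⟩ : C) ^ 2 ^ e = 1)
    have he3 : 3 ≤ e := by
      by_contra hlt
      obtain ⟨c, hc, hc4⟩ := hbig
      refine hc4 ?_
      rw [← pow_two, ← pow_two, ← pow_mul, show 2 * 2 = 2 ^ e * 2 ^ (2 - e) by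
        rw [← pow_add, Nat.add_sub_cancel' (by omega)]; norm_num, pow_mul, hall c hc, one_pow]
    obtain ⟨a₀, ha₀⟩ : ∃ a : C, a ^ 2 ^ (e - 1) ≠ 1 := by
      by_contra hno
      push Not at hno
      have := Monoid.exponent_dvd_of_forall_pow_eq_one hno
      rw [he] at this
      have := (Nat.pow_dvd_pow_iff_le_right (le_refl 2)).mp this
      omega
    have hroot : ∀ j ≤ e, ∀ c ∈ C, c ^ 2 ^ j = 1 → ∃ u ∈ C, u ^ 2 ^ (e - j) = c := by
      intro j hj c hc hcj
      obtain ⟨y, hy⟩ := exists_root (hP.to_subgroup C) (fun x y => Subtype.ext (hCab x x.2 y y.2))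
        (h.restrict C hCinv) ha₀ j (by omega) ⟨c, hc⟩ (Subtype.ext hcj)
      rw [show e - 1 + 1 - j = e - j by omega] at hy
      exact ⟨y, y.2, congrArg Subtype.val hy⟩
    have hδC : ∀ y : P, ∀ u ∈ C, ⁅y, u⁆ ∈ C := fun y u hu => by
      rw [show ⁅y, u⁆ = y * u * y⁻¹ * u⁻¹ from commutatorElement_def y u]
      exact mul_mem (hCn y u hu) (inv_mem hu)
    have hδmul : ∀ y : P, ∀ u ∈ C, ∀ v ∈ C, ⁅y, u * v⁆ = ⁅y, u⁆ * ⁅y, v⁆ := fun y u hu v hv => by
      rw [commutatorElement_mul_right_eq_mul_conj, mul_assoc ⁅y, u⁆ u, (hCab u hu _ (hδC y v hv)).eq,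
        mul_assoc, mul_inv_cancel_right]
    have hδpow : ∀ y : P, ∀ u ∈ C, ∀ n : ℕ, ⁅y, u ^ n⁆ = ⁅y, u⁆ ^ n := by
      intro y u hu n
      induction n with
      | zero => simp [commutatorElement_def]
      | succ n ih => rw [pow_succ, hδmul y _ (pow_mem hu n) u hu, ih, pow_succ]
    have hidem : ∀ y x, π y (π y x) = π y x := by
      intro y x
      obtain ⟨w, hw, rfl⟩ : ∃ w ∈ W, φ w = x := ⟨_, htw x, htwE x⟩
      obtain ⟨u, hu, huw⟩ := hroot 2 (by omega) w (hWC hw) (by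
        rw [show 2 ^ 2 = 2 * 2 by norm_num, pow_mul, pow_two, pow_two]; exact hZ2 _ (hWsq w hw))
      set r := ⁅y, u⁆ with hr
      have hrC := hδC y u hu
      have hc : ⁅y, w⁆ = r ^ 2 ^ (e - 2) := by rw [← huw, hδpow y u hu]
      obtain ⟨s, hs, hsr⟩ := hroot (e - 1) (by omega) r hrC (by
        rw [show 2 ^ (e - 1) = 2 ^ (e - 2) * 2 by rw [← pow_succ]; congr 1; omega, pow_mul, ← hc, pow_two]
        exact hZ2 _ (hWr y w hw))
      rw [show e - (e - 1) = 1 by omega, pow_one] at hsr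
      set w' := s ^ 2 ^ (e - 2) with hw'
      have hw'2 : w' * w' = ⁅y, w⁆ := by
        rw [hc, ← hsr, hw', ← pow_two, ← pow_mul, ← pow_mul, mul_comm]
      have hw'W : w' ∈ W := hC4 _ (pow_mem hs _) (by rw [hw'2]; exact hZ2 _ (hWr y w hw))
      have hδr : ⁅y, r⁆ = r⁻¹ * r⁻¹ := by
        have hyy : y * y * u = u * (y * y) := (hCab _ (hsqC y) u hu).eq
        rw [commutatorElement_def y r, show y * r * y⁻¹ = r⁻¹ by
          rw [hr, commutatorElement_def]
          calc y * (y * u * y⁻¹ * u⁻¹) * y⁻¹ = y * y * u * y⁻¹ * u⁻¹ * y⁻¹ := by group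
            _ = u * (y * y) * y⁻¹ * u⁻¹ * y⁻¹ := by rw [hyy]
            _ = (y * u * y⁻¹ * u⁻¹)⁻¹ := by group]
      have ht : (⁅y, s⁆ * (s * s)) * (⁅y, s⁆ * (s * s)) = 1 := by
        rw [(hCab _ (mul_mem hs hs) _ (hδC y s hs)).mul_mul_mul_comm ⁅y, s⁆ (s * s), ← hδmul y s hs s hs,
          ← pow_two s, hsr, hδr]
        group
      have hsplit : ⁅y, w'⁆ * ⁅y, w⁆ = 1 := by
        rw [hw', hδpow y s hs, hc, ← hsr, pow_two, ← (hCab _ (hδC y s hs) _ (mul_mem hs hs)).mul_pow,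
          show 2 ^ (e - 2) = 2 * 2 ^ (e - 3) by rw [← pow_succ']; congr 1; omega, pow_mul, pow_two, ht, one_pow]
      rw [hπ y w hw, show E ⁅y, w⁆ = φ w' by show _ = E (w' * w'); rw [hw'2], hπ y w' hw'W]
      show E ⁅y, w'⁆ = E (w' * w')
      rw [hw'2, eq_inv_of_mul_eq_one_left hsplit, inv_eq_of_sq (hZ2 _ (hWr y w hw))]
    have hcomm : ∀ y y' x, π y (π y' x) = π y' (π y x) := by
      intro y y' x
      have h1 := hidem (y * y') x
      simp only [hπmul, AddMonoidHom.add_apply, map_add, hidem] at h1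
      have h2 : π y (π y' x) + π y' (π y x) = 0 := by linear_combination h1
      exact CharTwo.add_eq_zero.mp h2
    haveI : Nonempty {x : F // x ≠ 0} := ⟨⟨1, one_ne_zero⟩⟩
    obtain ⟨⟨x₀, hx₀⟩, hmax⟩ := Finite.exists_max
      fun x : {x : F // x ≠ 0} => Set.ncard {y : P | π y x.1 = 0 ∨ π y x.1 = x.1}
    have heig : ∀ y, π y x₀ = 0 ∨ π y x₀ = x₀ := by
      intro y
      by_contra hy
      have hx' : π y x₀ ≠ 0 := fun e => hy (Or.inl e)
      refine absurd (hmax ⟨π y x₀, hx'⟩) (not_le.mpr (Set.ncard_lt_ncard ?_ (Set.toFinite _)))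
      refine ⟨fun y' hy' => ?_, fun hsub => hy (hsub (Or.inr (hidem y x₀)))⟩
      rcases hy' with hy' | hy'
      · exact Or.inl (by show π y' (π y x₀) = 0; rw [hcomm, hy', map_zero])
      · exact Or.inr (by show π y' (π y x₀) = π y x₀; rw [hcomm, hy'])
    have hscal : ∀ y, π y ≠ 0 → ∀ x, π y x = x := by
      intro y hy x
      have hall' : ∀ x, π y x = 0 ∨ π y x = x := by
        intro x
        by_cases hx : x = 0
        · exact Or.inl (by rw [hx, map_zero])
        obtain ⟨k, hk⟩ := hftr x₀ x hx₀ hx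
        have hxk : x = f k x₀ := hk.symm
        have hy' : ρ k (ρ k⁻¹ y) = y := by
          rw [← MulAut.mul_apply, ← map_mul, mul_inv_cancel, map_one]
          rfl
        rw [← hy', hxk, hπρ]
        rcases heig (ρ k⁻¹ y) with e | e
        · exact Or.inl (by rw [e, map_zero])
        · exact Or.inr (by rw [e])
      obtain ⟨x₁, hx₁⟩ : ∃ x, π y x ≠ 0 := by
        by_contra hno
        push Not at hno
        exact hy (AddMonoidHom.ext hno)
      have hx₁' := (hall' x₁).resolve_left hx₁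
      rcases hall' x with hx | hx
      · rcases hall' (x₁ + x) with h1 | h1
        · rw [map_add, hx, add_zero] at h1
          exact absurd h1 hx₁
        · rw [map_add, hx, add_zero, hx₁', left_eq_add] at h1
          rw [h1, map_zero]
      · exact hx
    have hyC : y₀ ∉ C := fun e => hy₀ ((hC _).mp e)
    have hsqZ : ∀ y, π y ≠ 0 → y * y * (y * y) = 1 := by
      intro y hy
      by_contra h4
      obtain ⟨i, hi, hi2⟩ := exists_involution hP h4
      set w := (y * y) ^ 2 ^ i with hw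
      have hwW : w ∈ W := hC4 _ (pow_mem (hsqC y) _) (by
        rw [hw, ← pow_add, ← pow_add]
        have e : 2 ^ i + 2 ^ i + (2 ^ i + 2 ^ i) = 2 * 2 ^ (i + 1) := by rw [pow_succ]; omega
        rw [e, pow_mul, pow_two]
        exact hi2)
      have h1 : π y (φ w) = 0 := by
        rw [hπ y w hwW, commutatorElement_eq_one_iff_commute.mpr
          (((Commute.refl y).mul_right (Commute.refl y)).pow_right _), hE1]
      rw [hscal y hy] at h1
      exact hi (by
        have := hZ2 _ (hφ0 w hwW h1)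
        rw [hw, ← (Commute.refl (y * y)).mul_pow] at this
        exact this)
    have hy2 : y₀ * y₀ ∈ Z := h.central _ (hsqZ _ hy₀)
    have hy21 : y₀ * y₀ ≠ 1 := fun e => hyC (hWC (hZW (h.central _ e)))
    let T : P → P := fun c => y₀⁻¹ * c * y₀ * c
    have hT : ∀ c, (y₀ * y₀) * T c = y₀ * c * (y₀ * c) := fun c => by simp only [T]; group
    have hTy : ∀ k, ∀ c, y₀⁻¹ * ρ k y₀ ∈ C → c ∈ C → (ρ k y₀)⁻¹ * c * ρ k y₀ = y₀⁻¹ * c * y₀ := by
      intro k c hk hc
      have hc' : y₀⁻¹ * c * y₀ ∈ C := by simpa using hCn y₀⁻¹ c hc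
      calc (ρ k y₀)⁻¹ * c * ρ k y₀
          = (y₀⁻¹ * ρ k y₀)⁻¹ * ((y₀⁻¹ * c * y₀) * (y₀⁻¹ * ρ k y₀)) := by group
        _ = _ := by rw [(hCab _ hc' _ hk).eq, inv_mul_cancel_left]
    have hkC : ∀ k, y₀⁻¹ * ρ k y₀ ∈ C := fun k => (hC _).mpr (AddMonoidHom.ext fun x => by
      have h1 : π (ρ k y₀) ≠ 0 := fun e => hyC (by
        have := hCinv k⁻¹ _ ((hC _).mpr e)
        rwa [← MulAut.mul_apply, ← map_mul, inv_mul_cancel, map_one] at this)
      rw [hπmul, hπinv, AddMonoidHom.add_apply, hscal _ hy₀, hscal _ h1, CharTwo.add_self_eq_zero]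
      rfl)
    have hT1 : ∀ c ∈ C, T c = 1 := by
      intro c hc
      by_contra hTc
      have h1 : π (y₀ * c) ≠ 0 := by rwa [hπmul, (hC c).mp hc, add_zero]
      have hTZ : T c ∈ Z := by
        have := mul_mem (inv_mem hy2) (h.central _ (hsqZ _ h1))
        rwa [← hT, inv_mul_cancel_left] at this
      obtain ⟨k, hk⟩ := h.trans (T c) (y₀ * y₀) hTc (hZ2 _ hTZ) hy21 (hsqZ _ hy₀)
      have h2 : T (ρ k c) = y₀ * y₀ := by
        rw [← hk]
        simp only [T, map_mul, map_inv]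
        rw [hTy k _ (hkC k) (hCinv k c hc)]
      have h3 : y₀ * ρ k c * (y₀ * ρ k c) = 1 := by rw [← hT, h2, hsqZ _ hy₀]
      exact hyC (by simpa using mul_mem (hWC (hZW (h.central _ h3))) (inv_mem (hCinv k c hc)))
    have hfix : ρ k₀ (y₀ * y₀) = y₀ * y₀ := by
      have h1 := hT (y₀⁻¹ * ρ k₀ y₀)
      rw [hT1 _ (hkC k₀), mul_one, mul_inv_cancel_left] at h1
      rw [map_mul]
      exact h1.symm
    have := hEρ k₀ _ (hsqZ _ hy₀)
    rw [hfix, hk₀] at this
    refine hy21 (hE0 _ (hsqZ _ hy₀) ?_)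
    have h0 : (ω - 1) * E (y₀ * y₀) = 0 := by linear_combination -this
    exact (mul_eq_zero.mp h0).resolve_left (sub_ne_zero.mpr hω1)
  -- a small centralizer
  push Not at hbig
  have hCW : ∀ y, π y = 0 → y ∈ W := fun y hy => hC4 y ((hC y).mpr hy) (hbig y ((hC y).mpr hy))
  have hsqW : ∀ y, y * y ∈ W := fun y => hCW _ (by rw [hπmul, hself])
  have hcW : ∀ a b : P, ⁅a, b⁆ ∈ W := fun a b => by
    rw [comm_eq_squares]
    exact mul_mem (mul_mem (hsqW a) (hsqW _)) (hsqW b⁻¹)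
  let B : P → P → F := fun y b => φ ⁅y, b⁆
  let Q : P → F := fun y => φ (y * y)
  have hBl : ∀ y y' b, B (y * y') b = B y b + B y' b := fun y y' b => by
    show φ _ = φ _ + φ _
    rw [commutatorElement_mul_left_eq_conj_mul, hφmul _ (hWn y _ (hcW y' b)) _ (hcW y b), hφconj y _ (hcW y' b),
      add_comm]
  have hBr : ∀ y b b', B y (b * b') = B y b + B y b' := fun y b b' => by
    show φ _ = φ _ + φ _
    rw [commutatorElement_mul_right_eq_mul_conj, mul_assoc ⁅y, b⁆ b, mul_assoc ⁅y, b⁆,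
      hφmul _ (hcW y b) _ (hWn b _ (hcW y b')), hφconj b _ (hcW y b')]
  have hBW : ∀ w ∈ W, ∀ b, B w b = 0 := fun w hw b => hφZ _ (hw b)
  have hBdep : ∀ y y' b, π y = π y' → B y b = B y' b := fun y y' b e => by
    have h1 := hBl y' (y'⁻¹ * y) b
    rwa [mul_inv_cancel_left, hBW (y'⁻¹ * y) (hCW _ (by rw [hπmul, hπinv, e, hself])) b, add_zero] at h1
  have hBdep' : ∀ y b b', π b = π b' → B y b = B y b' := fun y b b' e => by
    have h1 := hBr y b' (b'⁻¹ * b)
    have h2 : B y (b'⁻¹ * b) = 0 := by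
      show φ _ = 0
      exact hφZ _ (hWr y _ (hCW _ (by rw [hπmul, hπinv, e, hself])))
    rwa [mul_inv_cancel_left, h2, add_zero] at h1
  have hBne : ∀ y, π y ≠ 0 → ∃ b, B y b ≠ 0 := by
    intro y hy
    by_contra hno
    push Not at hno
    exact hy ((hC y).mp (hWC fun b => hφ0 _ (hcW y b) (hno b)))
  have hdag : ∀ y b, π y (B y b) + B y b = π b (Q y) := by
    intro y b
    show π y (φ ⁅y, b⁆) + E (⁅y, b⁆ * ⁅y, b⁆) = π b (φ (y * y))
    rw [hπ y _ (hcW y b), hπ b _ (hsqW y), ← hEZ _ (hWr y _ (hcW y b)) _ (hWsq _ (hcW y b))]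
    have e : ⁅y * y, b⁆ = ⁅y, ⁅y, b⁆⁆ * (⁅y, b⁆ * ⁅y, b⁆) := by
      rw [comm_sq_left, commutatorElement_def y ⁅y, b⁆]
      group
    rw [← e, ← commutatorElement_inv, inv_eq_of_sq]
    exact hZ2 _ (hWr b _ (hsqW y))
  have hQW : ∀ y, ∀ w ∈ W, Q (y * w) = Q y := fun y w hw => by
    show φ (y * w * (y * w)) = φ (y * y)
    rw [show y * w * (y * w) = y * y * ((y⁻¹ * w * y⁻¹⁻¹) * w) by group,
      hφmul _ (hsqW y) _ (mul_mem (hWn y⁻¹ w hw) hw), hφmul _ (hWn y⁻¹ w hw) _ hw, hφconj y⁻¹ w hw,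
      CharTwo.add_self_eq_zero, add_zero]
  have hfixed : ∀ y, (∀ x, π y (ω * x) = ω * π y x) → π y = 0 := by
    intro y hy
    by_contra hne
    have hmem : y⁻¹ * ρ k₀ y ∈ W := hCW _ (AddMonoidHom.ext fun x => by
      rw [hπmul, hπinv, AddMonoidHom.add_apply, ← mul_div_cancel₀ x hω0, hy, hπρ₀,
        CharTwo.add_self_eq_zero]
      rfl)
    have hρy : ρ k₀ y = y * (y⁻¹ * ρ k₀ y) := by group
    have hQ0 : Q y = 0 := by
      have h1 : Q (ρ k₀ y) = ω * Q y := by
        show φ (ρ k₀ y * ρ k₀ y) = ω * φ (y * y)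
        rw [← map_mul, hφρ k₀ _ (hsqW y), hk₀]
      rw [hρy, hQW y _ hmem] at h1
      have h0 : (ω - 1) * Q y = 0 := by linear_combination -h1
      exact (mul_eq_zero.mp h0).resolve_left (sub_ne_zero.mpr hω1)
    have hy2 : y * y ∈ Z := hφ0 _ (hsqW y) hQ0
    have hlin : ∀ x, π y x = x * π y 1 := span_induct hgood.ext _ (by rw [map_zero, zero_mul])
      (fun u u' hu hu' => by rw [map_add, hu, hu', add_mul]) (by rw [one_mul])
      (fun u hu => by rw [hy, hu, mul_assoc])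
    have ha : π y 1 = 1 := by
      obtain ⟨b, hb⟩ := hBne y hne
      have h1 := hdag y b
      rw [hQ0, map_zero, hlin] at h1
      have h0 : B y b * (π y 1 + 1) = 0 := by linear_combination h1
      exact CharTwo.add_eq_zero.mp ((mul_eq_zero.mp h0).resolve_left hb)
    have hsame : ρ k₀ (y * y) = y * y := by
      rw [map_mul, hρy]
      set w := y⁻¹ * ρ k₀ y
      have h1 : y⁻¹ * w * y * w = 1 := by
        rw [show y⁻¹ * w * y * w = ⁅y⁻¹, w⁆ * (w * w) by rw [commutatorElement_def]; group]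
        refine hE0 _ ((omega h).mul_mem (hZ2 _ (hWr _ _ hmem)) (hZ2 _ (hWsq _ hmem))) ?_
        rw [hEZ _ (hWr _ _ hmem) _ (hWsq _ hmem), ← hπ y⁻¹ w hmem, hπinv, hlin, ha, mul_one]
        exact CharTwo.add_self_eq_zero (φ w)
      rw [show y * w * (y * w) = y * y * (y⁻¹ * w * y * w) by group, h1, mul_one]
    have := hEρ k₀ _ (hZ2 _ hy2)
    rw [hsame, hk₀] at this
    refine hne ((hC y).mp (hWC (hZW (h.central y (hE0 _ (hZ2 _ hy2) ?_)))))
    have h0 : (ω - 1) * E (y * y) = 0 := by linear_combination -this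
    exact (mul_eq_zero.mp h0).resolve_left (sub_ne_zero.mpr hω1)
  let M : AddSubgroup (F →+ F) :=
    { carrier := Set.range π
      zero_mem' := ⟨1, hπone⟩
      add_mem' := by rintro _ _ ⟨y, rfl⟩ ⟨y', rfl⟩; exact ⟨y * y', hπmul y y'⟩
      neg_mem' := by
        rintro _ ⟨y, rfl⟩
        exact ⟨y, eq_neg_of_add_eq_zero_left (hself _)⟩ }
  let Inv : AddSubgroup (F →+ F) → Prop := fun N => ∀ p ∈ N, ∀ k, ∃ g ∈ N, ∀ x, g (f k x) = f k (p x)
  have hMinv : Inv M := by
    rintro _ ⟨y, rfl⟩ k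
    exact ⟨π (ρ k y), ⟨_, rfl⟩, hπρ k y⟩
  have huniq : ∀ f g g' : F →+ F, (∀ x, g (ω * x) = ω * f x) → (∀ x, g' (ω * x) = ω * f x) → g = g' :=
    fun f g g' hg hg' => AddMonoidHom.ext fun x => by rw [← mul_div_cancel₀ x hω0, hg, hg']
  haveI : Finite (F →+ F) := Finite.of_injective (fun f => (f : F → F)) DFunLike.coe_injective
  haveI : Finite (AddSubgroup (F →+ F)) :=
    Finite.of_injective (fun N => (N : Set (F →+ F))) SetLike.coe_injective
  obtain ⟨M', hM'⟩ := (Set.toFinite {N : AddSubgroup (F →+ F) | N ≤ M ∧ N ≠ ⊥ ∧ Inv N}).exists_minimal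
    ⟨M, le_rfl, fun e => hy₀ (AddSubgroup.mem_bot.mp (e ▸ (⟨y₀, rfl⟩ : π y₀ ∈ M))), hMinv⟩
  obtain ⟨⟨hM'M, hM'0, hM'inv⟩, hmin⟩ := hM'
  have hM'ω : ∀ p ∈ M', ∃ g ∈ M', ∀ x, g (ω * x) = ω * p x := fun p hp => by
    obtain ⟨g, hg, hgp⟩ := hM'inv p hp k₀
    exact ⟨g, hg, fun x => by rw [← hk₀, hgp, hk₀]⟩
  have hinj := injective_of_minimal M' ω hgood hM'ω (fun p hp hpx => by
      obtain ⟨y, rfl⟩ := hM'M hp
      exact hfixed y hpx)
    (fun N hN hNinv => by
      by_cases hN0 : N = ⊥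
      · exact Or.inl hN0
      refine Or.inr (le_antisymm hN (hmin ⟨hN.trans hM'M, hN0, fun p hp k => ?_⟩ hN))
      obtain ⟨g, hg, hgp⟩ := hM'inv p (hN hp) k
      obtain ⟨a, σ, ha, hσ⟩ := hsemi k
      exact ⟨g, hNinv p hp g hg a σ ha (fun x => by rw [← hσ, hgp, hσ]), hgp⟩)
  have hQ0 : ∀ y, π y ∈ M' → π y ≠ 0 → Q y = 0 := by
    intro y hy hne
    refine (injective_iff_map_eq_zero _).mp (hinj _ hy hne) _ ?_
    show π y (φ (y * y)) = 0
    rw [hπ y _ (hsqW y), commutatorElement_eq_one_iff_commute.mpr ((Commute.refl y).mul_right (Commute.refl y)), hE1]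
  have hBfix : ∀ y b, π y ∈ M' → π y (B y b) = B y b := by
    intro y b hy
    by_cases hne : π y = 0
    · rw [hBW y (hCW y hne), map_zero]
    · have h1 := hdag y b
      rw [hQ0 y hy hne, map_zero] at h1
      exact CharTwo.add_eq_zero.mp h1
  have hsep : ∀ f ∈ M', ∀ g ∈ M', ∀ x, x ≠ 0 → f x = x → g x = x → f = g := by
    intro f hf g hg x hx hfx hgx
    by_contra hne
    have h1 : f + g ≠ 0 := fun e => hne (by rw [← add_zero f, ← hself g, ← add_assoc, e, zero_add])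
    refine hx ((injective_iff_map_eq_zero _).mp (hinj _ (M'.add_mem hf hg) h1) x ?_)
    rw [AddMonoidHom.add_apply, hfx, hgx, CharTwo.add_self_eq_zero]
  obtain ⟨y₁, hy₁, hy₁0⟩ : ∃ y, π y ∈ M' ∧ π y ≠ 0 := by
    obtain ⟨⟨f, hf⟩, hf0⟩ : ∃ a : M', a ≠ 0 := by
      by_contra hno
      push Not at hno
      exact hM'0 ((AddSubgroup.eq_bot_iff_forall _).mpr fun x hx => congrArg Subtype.val (hno ⟨x, hx⟩))
    obtain ⟨y, rfl⟩ := hM'M hf
    exact ⟨y, hf, fun e => hf0 (Subtype.ext e)⟩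
  obtain ⟨b₁, hb₁⟩ := hBne y₁ hy₁0
  -- each map of the minimal module fixes exactly one nonzero element
  have hone : ∀ x x', x ≠ 0 → x' ≠ 0 → π y₁ x = x → π y₁ x' = x' → x = x' := by
    let Fix : AddSubgroup F :=
      { carrier := {x | π y₁ x = x}
        zero_mem' := map_zero _
        add_mem' := fun {a b} (ha : π y₁ a = a) (hb : π y₁ b = b) => by
          show π y₁ (a + b) = a + b
          rw [map_add, ha, hb]
        neg_mem' := fun {a} (ha : π y₁ a = a) => by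
          show π y₁ (-a) = -a
          rw [map_neg, ha] }
    have hx₀ := hBfix y₁ b₁ hy₁
    have hcover : ∀ x : F, x ≠ 0 → ∃ g : {g : M' // g ≠ 0}, g.1.1 x = x ∧
        ∃ k, ∀ z, g.1.1 (f k z) = f k (π y₁ z) := by
      intro x hx
      obtain ⟨k, hk⟩ := hftr (B y₁ b₁) x hb₁ hx
      obtain ⟨g, hg, hgz⟩ := hM'inv _ hy₁ k
      have hgx : g x = x := by rw [← hk, hgz, hx₀]
      exact ⟨⟨⟨g, hg⟩, fun e => hx (by
        rw [← hgx, show g = 0 from congrArg Subtype.val e, AddMonoidHom.zero_apply])⟩, hgx, k, hgz⟩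
    let Φ : {x : F // x ≠ 0} → {f : M' // f ≠ 0} := fun x => (hcover x.1 x.2).choose
    have hΦ : ∀ x, (Φ x).1.1 x.1 = x.1 := fun x => (hcover x.1 x.2).choose_spec.1
    have hfib : ∀ f : {f : M' // f ≠ 0}, Nat.card {x // Φ x = f} = Nat.card {x : Fix // x ≠ 0} := by
      intro p
      obtain ⟨y, hy⟩ := hM'M p.1.2
      have hyM : π y ∈ M' := by rw [hy]; exact p.1.2
      have hy0 : π y ≠ 0 := fun e => p.2 (Subtype.ext (by rw [← hy, e]; rfl))
      obtain ⟨b, hb⟩ := hBne y hy0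
      obtain ⟨g, hgx, k, hgz⟩ := hcover _ hb
      have hgf : g = p := Subtype.ext (Subtype.ext (by
        rw [← hy]
        exact hsep _ g.1.2 _ hyM _ hb hgx (hBfix y b hyM)))
      subst hgf
      have hk' : ∀ z, f k⁻¹ (f k z) = z := fun z => by simpa using hfinv k⁻¹ z
      have hk0 : ∀ z, z ≠ 0 → f k z ≠ 0 := fun z hz e => hz (by rw [← hk' z, e, map_zero])
      refine Nat.card_congr
        { toFun := fun x => ⟨⟨f k⁻¹ x.1.1, ?_⟩, fun e => x.1.2 (by
            rw [← hfinv k x.1.1, show f k⁻¹ x.1.1 = 0 from congrArg Subtype.val e, map_zero])⟩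
          invFun := fun z => ⟨⟨f k z.1.1, hk0 _ fun e => z.2 (Subtype.ext e)⟩, Subtype.ext (Subtype.ext ?_)⟩
          left_inv := fun x => Subtype.ext (Subtype.ext (hfinv k _))
          right_inv := fun z => Subtype.ext (Subtype.ext (hk' _)) }
      · show π y₁ (f k⁻¹ x.1.1) = f k⁻¹ x.1.1
        have hx := hΦ x.1
        rw [show Φ x.1 = g from x.2] at hx
        have h1 := hgz (f k⁻¹ x.1.1)
        rw [hfinv, hx] at h1
        have h2 := congrArg (f k⁻¹) h1
        rw [hk'] at h2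
        exact h2.symm
      · refine hsep _ (Φ _).1.2 _ g.1.2 _ (hk0 _ fun e => z.2 (Subtype.ext e)) (hΦ _) ?_
        rw [hgz, show π y₁ z.1.1 = z.1.1 from z.1.2]
    have hcount : Nat.card {x : F // x ≠ 0} = Nat.card {f : M' // f ≠ 0} * Nat.card {x : Fix // x ≠ 0} := by
      haveI : Fintype {f : M' // f ≠ 0} := Fintype.ofFinite _
      rw [← Nat.card_congr (Equiv.sigmaFiberEquiv Φ), Nat.card_sigma, Finset.sum_congr rfl fun p _ => hfib p,
        Finset.sum_const, smul_eq_mul, Finset.card_univ, Nat.card_eq_fintype_card (α := {f : M' // f ≠ 0})]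
    obtain ⟨n, -, hn⟩ := FiniteField.card F 2
    have hn' : Nat.card F = 2 ^ (n : ℕ) := by rw [Nat.card_eq_fintype_card]; exact hn
    have hsub : ∀ (α : Type) [Finite α] (a : α), Nat.card {x : α // x ≠ a} = Nat.card α - 1 := fun α _ a => by
      haveI := Fintype.ofFinite α
      rw [Nat.card_eq_fintype_card, Nat.card_eq_fintype_card, Fintype.card_subtype_compl, Fintype.card_subtype_eq]
    obtain ⟨g, -, hg⟩ := (Nat.dvd_prime_pow Nat.prime_two).mp
      (hn' ▸ AddSubgroup.card_addSubgroup_dvd_card Fix : Nat.card Fix ∣ 2 ^ (n : ℕ))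
    obtain ⟨d, hd⟩ : ∃ d, Nat.card M' = 2 ^ d := by
      haveI : Fintype M' := Fintype.ofFinite _
      have hexp : ∀ x : Multiplicative M', x ^ 2 = 1 := fun x => by
        rw [pow_two]
        exact Multiplicative.toAdd.injective (Subtype.ext (hself _))
      obtain ⟨d, hd⟩ := (IsPGroup.iff_card (p := 2) (G := Multiplicative M')).mp (fun x => ⟨1, by rw [pow_one]; exact hexp x⟩)
      exact ⟨d, by rwa [Nat.card_congr Multiplicative.toAdd] at hd⟩
    rw [hsub F 0, hsub M' 0, hsub Fix 0, hn', hg, hd] at hcount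
    have hn2 : 2 ≤ (n : ℕ) := by
      by_contra hlt
      have h1 : (n : ℕ) = 1 := by have := n.pos; omega
      rw [h1, pow_one, Nat.card_eq_fintype_card] at hn'
      have hcases : ω = 0 ∨ ω = 1 := by
        by_contra hno
        push Not at hno
        have h3 : ({0, 1, ω} : Finset F).card ≤ 2 := hn' ▸ Finset.card_le_univ _
        rw [Finset.card_eq_three.mpr ⟨0, 1, ω, zero_ne_one, hno.1.symm, hno.2.symm, rfl⟩] at h3
        omega
      exact hcases.elim hω0 hω1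
    have hg2 : g = 1 := by
      rcases g with _ | _ | g
      · simp at hcount
        have : 4 ≤ 2 ^ (n : ℕ) := le_trans (by norm_num) (Nat.pow_le_pow_right (by norm_num) hn2)
        omega
      · rfl
      rcases d with _ | _ | d
      · simp at hcount
        have : 4 ≤ 2 ^ (n : ℕ) := le_trans (by norm_num) (Nat.pow_le_pow_right (by norm_num) hn2)
        omega
      · -- only one nonzero map: it is fixed
        exfalso
        obtain ⟨f', hf', hfx⟩ := hM'ω _ hy₁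
        have hf'0 : f' ≠ 0 := fun e => hy₁0 (AddMonoidHom.ext fun x => by
          have := hfx x
          rw [e, AddMonoidHom.zero_apply, eq_comm, mul_eq_zero] at this
          exact this.resolve_left hω0)
        have h1 : Nat.card {f : M' // f ≠ 0} = 1 := by rw [hsub M' 0, hd]; norm_num
        haveI := (Nat.card_eq_one_iff_unique.mp h1).1
        have h2 := Subsingleton.elim (⟨⟨f', hf'⟩, fun e => hf'0 (congrArg Subtype.val e)⟩ : {f : M' // f ≠ 0})
          ⟨⟨π y₁, hy₁⟩, fun e => hy₁0 (congrArg Subtype.val e)⟩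
        have h3 : f' = π y₁ := congrArg (fun a : {f : M' // f ≠ 0} => a.1.1) h2
        rw [h3] at hfx
        exact hy₁0 (hfixed y₁ hfx)
      exfalso
      obtain ⟨a, ha⟩ : ∃ a, 2 ^ (g + 2) = 4 * a := ⟨2 ^ g, by ring⟩
      obtain ⟨b, hb⟩ : ∃ b, 2 ^ (d + 2) = 4 * b := ⟨2 ^ d, by ring⟩
      obtain ⟨c, hc⟩ : ∃ c, 2 ^ (n : ℕ) = 4 * c := ⟨2 ^ ((n : ℕ) - 2), by
        rw [show (4 : ℕ) = 2 ^ 2 by norm_num, ← pow_add]; congr 1; omega⟩
      rw [show g + 1 + 1 = g + 2 from rfl, show d + 1 + 1 = d + 2 from rfl, ha, hb, hc] at hcount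
      have ha1 : 1 ≤ a := by have := Nat.one_le_two_pow (n := g + 2); omega
      have hb1 : 1 ≤ b := by have := Nat.one_le_two_pow (n := d + 2); omega
      obtain ⟨a', rfl⟩ : ∃ a', a = a' + 1 := ⟨a - 1, by omega⟩
      obtain ⟨b', rfl⟩ : ∃ b', b = b' + 1 := ⟨b - 1, by omega⟩
      rw [show 4 * (a' + 1) - 1 = 4 * a' + 3 by omega, show 4 * (b' + 1) - 1 = 4 * b' + 3 by omega,
        show (4 * b' + 3) * (4 * a' + 3) = 4 * (4 * b' * a' + 3 * b' + 3 * a' + 2) + 1 by ring] at hcount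
      omega
    intro x x' hx hx' hfx hfx'
    have hle : Nat.card {z : Fix // z ≠ 0} = 1 := by rw [hsub Fix 0, hg, hg2]; norm_num
    haveI := (Nat.card_eq_one_iff_unique.mp hle).1
    exact congrArg (fun z : {z : Fix // z ≠ 0} => z.1.1) (Subsingleton.elim
      (⟨⟨x, hfx⟩, fun e => hx (congrArg Subtype.val e)⟩ : {z : Fix // z ≠ 0})
      ⟨⟨x', hfx'⟩, fun e => hx' (congrArg Subtype.val e)⟩)
  -- vanishing is uniform on the minimal module
  have hunif : ∀ y y' b, π y ∈ M' → π y' ∈ M' → π y' ≠ 0 → B y' b = 0 → B y b = 0 := by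
    intro y y' b hy hy' hy'0 h0
    by_contra hb
    have h1 := hBfix (y * y') b (by rw [hπmul]; exact M'.add_mem hy hy')
    rw [hBl, h0, add_zero, hπmul, AddMonoidHom.add_apply, hBfix y b hy, add_eq_left] at h1
    exact hb ((injective_iff_map_eq_zero _).mp (hinj _ hy' hy'0) _ h1)
  have hpair : ∀ b b', B y₁ b ≠ 0 → B y₁ b' ≠ 0 → B y₁ (b * b') = 0 := fun b b' hb hb' => by
    rw [hBr, hone _ _ hb hb' (hBfix y₁ b hy₁) (hBfix y₁ b' hy₁), CharTwo.add_self_eq_zero]
  have hshift : ∀ b, B y₁ (ρ k₀ b) = 0 ↔ B y₁ b = 0 := by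
    intro b
    obtain ⟨g, hg, hgx⟩ := hM'ω _ hy₁
    have hge : π (ρ k₀ y₁) = g := huniq _ _ _ (hπρ₀ y₁) hgx
    have hyM : π (ρ k₀ y₁) ∈ M' := hge ▸ hg
    have hy0 : π (ρ k₀ y₁) ≠ 0 := fun e => hy₁0 (AddMonoidHom.ext fun x => by
      have h1 := hπρ₀ y₁ x
      rw [e, AddMonoidHom.zero_apply, eq_comm, mul_eq_zero] at h1
      exact h1.resolve_left hω0)
    have hB' : B (ρ k₀ y₁) (ρ k₀ b) = ω * B y₁ b := by
      show φ _ = ω * φ _
      rw [← map_commutatorElement, hφρ k₀ _ (hcW y₁ b), hk₀]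
    constructor
    · intro h0
      have h1 := hunif _ _ _ hyM hy₁ hy₁0 h0
      rw [hB'] at h1
      exact (mul_eq_zero.mp h1).resolve_left hω0
    · intro h0
      exact hunif _ _ _ hy₁ hyM hy0 (by rw [hB', h0, mul_zero])
  -- the operator `1 + ω` is onto the module
  have honto : ∀ b, ∃ b', π b = π (b' * ρ k₀ b') := by
    let Δ : M → M := fun f => ⟨π ((f.2 : _ ∈ Set.range π).choose * ρ k₀ (f.2 : _ ∈ Set.range π).choose), _, rfl⟩
    have hΔ : ∀ y, ∀ f : M, f.1 = π y → (Δ f).1 = π (y * ρ k₀ y) := by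
      intro y f hf
      have h1 : π (f.2 : _ ∈ Set.range π).choose = π y := (f.2 : _ ∈ Set.range π).choose_spec.trans hf
      show π _ = _
      rw [hπmul, hπmul, h1]
      congr 1
      refine huniq (π y) _ _ (fun x => ?_) (hπρ₀ y)
      rw [← h1]
      exact hπρ₀ _ x
    have hinjΔ : Function.Injective Δ := by
      intro f g hfg
      obtain ⟨y, hy⟩ := f.2
      obtain ⟨z, hz⟩ := g.2
      have h1 := (hΔ y f hy.symm).symm.trans ((congrArg Subtype.val hfg).trans (hΔ z g hz.symm))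
      refine Subtype.ext ?_
      rw [← hy, ← hz]
      have h2 : π (y * z) = 0 := hfixed _ fun x => by
        have e1 : π (ρ k₀ (y * z)) = π (y * z) := by
          rw [hπmul, hπmul] at h1
          rw [map_mul, hπmul, hπmul]
          have := congrArg (fun t => t + (π z + π (ρ k₀ y))) h1
          rw [show π z + π (ρ k₀ z) + (π z + π (ρ k₀ y)) = (π z + π z) + (π (ρ k₀ z) + π (ρ k₀ y)) by abel,
            hself, zero_add, show π y + π (ρ k₀ y) + (π z + π (ρ k₀ y)) = π y + π z + (π (ρ k₀ y) + π (ρ k₀ y)) by abel,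
            hself, add_zero] at this
          rw [this, add_comm]
        rw [← hπρ₀, e1]
      rw [hπmul] at h2
      calc π y = π y + (π z + π z) := by rw [hself, add_zero]
        _ = π z := by rw [← add_assoc, h2, zero_add]
    intro b
    obtain ⟨f, hf⟩ := Finite.surjective_of_injective hinjΔ ⟨π b, ⟨b, rfl⟩⟩
    obtain ⟨y, hy⟩ := f.2
    exact ⟨y, by rw [← hΔ y f hy.symm, hf]⟩
  refine hb₁ ?_
  obtain ⟨b', hb'⟩ := honto b₁
  rw [hBdep' y₁ _ _ hb']
  by_cases h0 : B y₁ b' = 0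
  · rw [hBr, h0, (hshift b').mpr h0, add_zero]
  · exact hpair _ _ h0 fun e => h0 ((hshift b').mp e)

end Cfsg.Lib.SuzukiSolv
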