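import Cfsg.Agent.SuzukiSolv.Coord

/-!
The centre of a Suzuki 2-group has exponent two.
-/

set_option autoImplicit false
set_option linter.style.haveILetI false

namespace Cfsg.Lib.SuzukiSolv

open scoped commutatorElement

universe u v

variable {K : Type v} [Group K] [Finite K]

/-- If the involutions are central and permuted transitively, a nonabelian group has centre of exponent two. -/
theorem center_sq_eq_one_aux (hK : Group.IsSolvable K) : ∀ (n : ℕ) {P : Type u} [Group P] [Finite P], Nat.card P ≤ n → IsPGroup 2 P →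
    ∀ (ρ : K →* MulAut P), InvolTrans ρ → (∃ x y : P, x * y ≠ y * x) →
    ∀ z ∈ Subgroup.center P, z * z = 1 := by
  intro n
  induction n with
  | zero => intro P _ _ hn; exact absurd hn (by have := Nat.card_pos (α := P); omega)
  | succ n IH =>
  intro P _ _ hn hP ρ h hnab z₀ hz₀
  by_contra hz₀2
  set Z := Subgroup.center P with hZdef
  have hzc : ∀ a ∈ Z, ∀ b, b * a = a * b := fun a ha => Subgroup.mem_center_iff.mp ha
  -- the centre
  obtain ⟨m, hm⟩ : ∃ m, Monoid.exponent Z = 2 ^ m := by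
    obtain ⟨t, ht⟩ := IsPGroup.iff_card.mp (hP.to_subgroup Z)
    obtain ⟨m, -, hm⟩ := (Nat.dvd_prime_pow Nat.prime_two).mp (ht ▸ Group.exponent_dvd_nat_card : Monoid.exponent Z ∣ 2 ^ t)
    exact ⟨m, hm⟩
  have hall : ∀ a ∈ Z, a ^ 2 ^ m = 1 := fun a ha =>
    congrArg Subtype.val (hm ▸ Monoid.pow_exponent_eq_one (⟨a, ha⟩ : Z) : (⟨a, ha⟩ : Z) ^ 2 ^ m = 1)
  have hm2 : 2 ≤ m := by
    by_contra hlt
    have h1 : z₀ ^ 2 ^ 1 = 1 := by
      rw [show 2 ^ 1 = 2 ^ m * 2 ^ (1 - m) by rw [← pow_add, Nat.add_sub_cancel' (by omega)], pow_mul,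
        hall z₀ hz₀, one_pow]
    exact hz₀2 (by rwa [pow_one, pow_two] at h1)
  obtain ⟨a₀, ha₀⟩ : ∃ a : Z, a ^ 2 ^ (m - 1) ≠ 1 := by
    by_contra hno
    push Not at hno
    have := Monoid.exponent_dvd_of_forall_pow_eq_one hno
    rw [hm] at this
    have := (Nat.pow_dvd_pow_iff_le_right (le_refl 2)).mp this
    omega
  have hrZ := h.restrict Z fun k x hx => center_invariant ρ k hx
  have hcomZ : ∀ x y : Z, x * y = y * x := fun x y => Subtype.ext (hzc y y.2 x)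
  have root1 : ∀ a ∈ Z, a * a = 1 → ∃ v ∈ Z, v * v = a := by
    intro a ha ha2
    obtain ⟨y, hy⟩ := exists_root (hP.to_subgroup Z) hcomZ hrZ (a := ⟨z₀, hz₀⟩) (i := 1)
      (fun e => hz₀2 (by simpa [pow_two] using congrArg Subtype.val e)) 1 (by norm_num) ⟨a, ha⟩
      (Subtype.ext (by simpa [pow_two] using ha2))
    exact ⟨y, y.2, by simpa [pow_two] using congrArg Subtype.val hy⟩
  have rootTop : ∀ a ∈ Z, a ^ 2 ^ (m - 1) = 1 → ∃ v ∈ Z, v * v = a := by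
    intro a ha ha2
    obtain ⟨y, hy⟩ := exists_root (hP.to_subgroup Z) hcomZ hrZ ha₀ (m - 1) (by omega) ⟨a, ha⟩ (Subtype.ext ha2)
    rw [show m - 1 + 1 - (m - 1) = 1 by omega] at hy
    exact ⟨y, y.2, by simpa [pow_two] using congrArg Subtype.val hy⟩
  have hinj : ∀ w v, v ∈ Z → w * w = v * v → w ∈ Z := by
    intro w v hv he
    have h2 : w * v⁻¹ * (w * v⁻¹) = 1 := by
      rw [mul_sq (by rw [comm_central (Z.inv_mem hv)]; exact one_mem _), he, comm_central (Z.inv_mem hv)]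
      group
    simpa using Z.mul_mem (h.central _ h2) hv
  -- the second layer
  let W : Subgroup P :=
    { carrier := {w | w * w ∈ Z ∧ ∀ b, ⁅w, b⁆ ∈ Z}
      one_mem' := ⟨by simp, fun b => by simp [commutatorElement_def]⟩
      mul_mem' := fun {a b} ha hb => ⟨by
          rw [mul_sq (hb.2 a)]
          exact mul_mem (mul_mem ha.1 hb.1) (hb.2 a), fun c => by
          rw [comm_mul_left (hb.2 c)]
          exact mul_mem (ha.2 c) (hb.2 c)⟩
      inv_mem' := fun {a} ha => ⟨by rw [← mul_inv_rev]; exact inv_mem ha.1, fun c => by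
          have e := comm_mul_left (a := a⁻¹) (ha.2 c)
          rw [inv_mul_cancel, commutatorElement_one_left, eq_comm, mul_eq_one_iff_eq_inv] at e
          rw [e]
          exact inv_mem (ha.2 c)⟩ }
  have hZW : Z ≤ W := fun a ha => ⟨mul_mem ha ha, fun b => by rw [comm_central ha]; exact one_mem _⟩
  have hWr : ∀ a : P, ∀ w ∈ W, ⁅a, w⁆ ∈ Z := fun a w hw => by
    rw [← commutatorElement_inv]
    exact inv_mem (hw.2 a)
  have hW2 : ∀ w ∈ W, ∀ b : P, ⁅w, b⁆ * ⁅w, b⁆ = 1 := fun w hw b => comm_sq hw.1 (hw.2 b)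
  have hWinv : ∀ k, ∀ w ∈ W, ρ k w ∈ W := fun k w hw => ⟨by
      rw [← map_mul]; exact center_invariant ρ k hw.1, fun b => by
      rw [← (ρ k).apply_symm_apply b, ← map_commutatorElement]
      exact center_invariant ρ k (hw.2 _)⟩
  let φ : P → P := fun w => (w * w) ^ 2 ^ (m - 1)
  have hφ2 : ∀ w ∈ W, φ w * φ w = 1 := fun w hw => by
    show (w * w) ^ 2 ^ (m - 1) * (w * w) ^ 2 ^ (m - 1) = 1
    rw [← pow_add, ← two_mul, ← pow_succ', show m - 1 + 1 = m by omega, hall _ hw.1]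
  have hφ1 : ∀ w ∈ W, φ w = 1 → w ∈ Z := fun w hw he => by
    obtain ⟨v, hv, hvv⟩ := rootTop _ hw.1 he
    exact hinj w v hv hvv.symm
  have hφZ : ∀ w ∈ Z, φ w = 1 := fun w hw => by
    show (w * w) ^ 2 ^ (m - 1) = 1
    rw [← pow_two, ← pow_mul, ← pow_succ', show m - 1 + 1 = m by omega, hall w hw]
  have hφmul : ∀ a ∈ W, ∀ b ∈ W, φ (a * b) = φ a * φ b := fun a ha b hb => by
    have hc1 : Commute (a * a * (b * b)) ⁅b, a⁆ := hzc _ (hb.2 a) _
    show (a * b * (a * b)) ^ 2 ^ (m - 1) = _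
    rw [mul_sq (hb.2 a), hc1.mul_pow, Commute.mul_pow (show Commute (a * a) (b * b) from hzc _ hb.1 _)]
    rw [show 2 ^ (m - 1) = 2 * 2 ^ (m - 2) by rw [← pow_succ']; congr 1; omega]
    rw [pow_mul ⁅b, a⁆, pow_two, hW2 b hb a, one_pow, mul_one]
    simp only [φ, show 2 ^ (m - 1) = 2 * 2 ^ (m - 2) by rw [← pow_succ']; congr 1; omega]
  have hφρ : ∀ k w, φ (ρ k w) = ρ k (φ w) := fun k w => by simp only [φ, map_pow, map_mul]
  have hnabZ : ∃ x, x ∉ Z := by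
    obtain ⟨x, y, hxy⟩ := hnab
    exact ⟨x, fun hx => hxy (hzc x hx y).symm⟩
  haveI : Nontrivial (P ⧸ Z) := by
    obtain ⟨x, hx⟩ := hnabZ
    exact ⟨⟨(x : P ⧸ Z), 1, fun e => hx ((QuotientGroup.eq_one_iff x).mp e)⟩⟩
  have hqZ : ∀ x : P, (x : P ⧸ Z) = 1 ↔ x ∈ Z := fun x => QuotientGroup.eq_one_iff x
  obtain ⟨w₀, hw₀, hw₀Z⟩ : ∃ w ∈ W, w ∉ Z := by
    haveI : Nontrivial (Subgroup.center (P ⧸ Z)) := (hP.to_quotient Z).center_nontrivial
    obtain ⟨⟨q, hq⟩, hq1⟩ := exists_ne (1 : Subgroup.center (P ⧸ Z))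
    obtain ⟨i, hi, hi2⟩ := exists_involution (hP.to_quotient Z) (fun e => hq1 (Subtype.ext e))
    obtain ⟨x, rfl⟩ := QuotientGroup.mk_surjective q
    refine ⟨x ^ 2 ^ i, ⟨?_, fun b => ?_⟩, fun hmem => hi ?_⟩
    · rw [← pow_two, ← pow_mul, ← pow_succ, ← hqZ, QuotientGroup.mk_pow, hi2]
    · rw [← hqZ, ← QuotientGroup.mk'_apply, map_commutatorElement]
      exact comm_central (by rw [map_pow]; exact pow_mem hq _)
    · rw [← QuotientGroup.mk_pow]
      exact (hqZ _).mpr hmem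
  have hsurj : ∀ u, u ≠ 1 → u * u = 1 → ∃ w ∈ W, φ w = u := by
    intro u hu hu2
    obtain ⟨k, hk⟩ := h.trans _ u (fun e => hw₀Z (hφ1 _ hw₀ e)) (hφ2 _ hw₀) hu hu2
    exact ⟨ρ k w₀, hWinv k _ hw₀, by rw [hφρ, hk]⟩
  have hclosed : ∀ y, y * y ∈ Z → y ∈ W := by
    intro y hy
    by_cases htop : (y * y) ^ 2 ^ (m - 1) = 1
    · obtain ⟨v, hv, hvv⟩ := rootTop _ hy htop
      exact hZW (hinj y v hv hvv.symm)
    obtain ⟨w, hw, hφw⟩ := hsurj _ htop (by
      rw [← pow_add, ← two_mul, ← pow_succ', show m - 1 + 1 = m by omega, hall _ hy])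
    obtain ⟨v, hv, hvv⟩ := rootTop (y * y * (w * w)⁻¹) (mul_mem hy (inv_mem hw.1)) (by
      rw [Commute.mul_pow (show Commute (y * y) (w * w)⁻¹ from hzc _ (inv_mem hw.1) _), inv_pow,
        show (w * w) ^ 2 ^ (m - 1) = (y * y) ^ 2 ^ (m - 1) from hφw, mul_inv_cancel])
    have hwi := W.inv_mem hw
    obtain ⟨v₁, hv₁, hvv₁⟩ := root1 _ (hwi.2 y) (hW2 _ hwi y)
    have hy' : y * w⁻¹ * (y * w⁻¹) = v * v₁ * (v * v₁) := by
      rw [mul_sq (hwi.2 y), ← mul_inv_rev, ← hvv, ← hvv₁]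
      exact (show Commute v v₁ from (hzc v hv v₁).symm).mul_mul_mul_comm v v₁
    simpa using W.mul_mem (hZW (hinj _ _ (mul_mem hv hv₁) hy')) hw
  -- the quotient by the centre
  have hZinv : ∀ k, ∀ x ∈ Z, ρ k x ∈ Z := fun k x hx => center_invariant ρ k hx
  let ρ' := quotAut ρ Z hZinv
  have hQ : InvolTrans ρ' := by
    refine ⟨fun q hq => ?_, fun q r hq hq2 hr hr2 => ?_⟩
    · obtain ⟨y, rfl⟩ := QuotientGroup.mk_surjective q
      rw [← QuotientGroup.mk_mul, hqZ] at hq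
      rw [Subgroup.mem_center_iff]
      intro r
      obtain ⟨b, rfl⟩ := QuotientGroup.mk_surjective r
      refine (commutatorElement_eq_one_iff_commute.mp ?_).eq.symm
      rw [← QuotientGroup.mk'_apply, ← QuotientGroup.mk'_apply, ← map_commutatorElement]
      exact (hqZ _).mpr ((hclosed y hq).2 b)
    · obtain ⟨y, rfl⟩ := QuotientGroup.mk_surjective q
      obtain ⟨x, rfl⟩ := QuotientGroup.mk_surjective r
      rw [← QuotientGroup.mk_mul, hqZ] at hq2 hr2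
      have hyW := hclosed y hq2
      have hxW := hclosed x hr2
      obtain ⟨k, hk⟩ := h.trans (φ y) (φ x) (fun e => hq ((hqZ y).mpr (hφ1 _ hyW e))) (hφ2 _ hyW)
        (fun e => hr ((hqZ x).mpr (hφ1 _ hxW e))) (hφ2 _ hxW)
      refine ⟨k, ?_⟩
      rw [quotAut_mk, QuotientGroup.eq]
      refine hφ1 _ (mul_mem (inv_mem (hWinv k _ hyW)) hxW) ?_
      have e := hφmul _ (inv_mem (hWinv k _ hyW)) _ (hWinv k _ hyW)
      rw [inv_mul_cancel, hφZ 1 (one_mem _), hφρ, hk, eq_comm, mul_eq_one_iff_eq_inv] at e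
      rw [hφmul _ (inv_mem (hWinv k _ hyW)) _ hxW, e, inv_mul_cancel]
  by_cases hQab : ∀ q r : P ⧸ Z, q * r = r * q
  swap
  · -- a nonabelian quotient
    push Not at hQab
    have hlt : Nat.card (P ⧸ Z) ≤ n := by
      have h1 := Subgroup.card_eq_card_quotient_mul_card_subgroup Z
      haveI : Nontrivial Z := ⟨⟨⟨z₀, hz₀⟩, 1, fun e => hz₀2 (by rw [show z₀ = 1 from congrArg Subtype.val e, one_mul])⟩⟩
      have h2 : 1 < Nat.card Z := Finite.one_lt_card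
      have h3 := Nat.card_pos (α := P ⧸ Z)
      nlinarith
    have hexp := IH hlt (hP.to_quotient Z) ρ' hQ hQab
    haveI : Nontrivial ((P ⧸ Z) ⧸ Subgroup.center (P ⧸ Z)) := by
      obtain ⟨q, r, hqr⟩ := hQab
      exact ⟨⟨(q : _ ⧸ _), 1, fun e => hqr
        (Subgroup.mem_center_iff.mp ((QuotientGroup.eq_one_iff q).mp e) r).symm⟩⟩
    haveI := ((hP.to_quotient Z).to_quotient (Subgroup.center (P ⧸ Z))).center_nontrivial
    obtain ⟨⟨qq, hqq⟩, hqq1⟩ := exists_ne (1 : Subgroup.center ((P ⧸ Z) ⧸ Subgroup.center (P ⧸ Z)))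
    obtain ⟨q, rfl⟩ := QuotientGroup.mk_surjective qq
    obtain ⟨a, rfl⟩ := QuotientGroup.mk_surjective q
    have hcc : ∀ b : P, ((⁅a, b⁆ : P) : P ⧸ Z) ∈ Subgroup.center (P ⧸ Z) := by
      intro b
      rw [← QuotientGroup.eq_one_iff, ← QuotientGroup.mk'_apply, ← QuotientGroup.mk'_apply Z, map_commutatorElement,
        map_commutatorElement]
      exact comm_central hqq
    have hdW : ∀ b : P, ⁅a, b⁆ ∈ W := fun b => hclosed _ (by
      rw [← hqZ, QuotientGroup.mk_mul]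
      exact hexp _ (hcc b))
    have ha2 : ((a * a : P) : P ⧸ Z) ∈ Subgroup.center (P ⧸ Z) := by
      rw [Subgroup.mem_center_iff]
      intro r
      obtain ⟨b, rfl⟩ := QuotientGroup.mk_surjective r
      refine (commutatorElement_eq_one_iff_commute.mp ?_).eq.symm
      rw [QuotientGroup.mk_mul, comm_sq_left]
      have hd := hcc b
      rw [← QuotientGroup.mk'_apply, map_commutatorElement] at hd
      simp only [QuotientGroup.mk'_apply] at hd
      rw [Subgroup.mem_center_iff.mp hd (a : P ⧸ Z), mul_inv_cancel_right]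
      exact hexp _ hd
    have ha2W : a * a ∈ W := hclosed _ (by rw [← hqZ, QuotientGroup.mk_mul]; exact hexp _ ha2)
    refine hqq1 (Subtype.ext ((QuotientGroup.eq_one_iff _).mpr ?_))
    rw [Subgroup.mem_center_iff]
    intro r
    obtain ⟨b, rfl⟩ := QuotientGroup.mk_surjective r
    refine (commutatorElement_eq_one_iff_commute.mp ?_).eq.symm
    rw [← QuotientGroup.mk'_apply, ← QuotientGroup.mk'_apply Z b, ← map_commutatorElement]
    refine (hqZ _).mpr ?_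
    set d := ⁅a, b⁆ with hd
    have e1 : ⁅a * a, b⁆ = ⁅a, d⁆ * (d * d) := by
      rw [comm_sq_left, ← hd, commutatorElement_def]
      group
    have he : ⁅a, d⁆ ∈ Z := hWr a d (hdW b)
    have he2 : ⁅a, d⁆ * ⁅a, d⁆ = 1 := by
      rw [← commutatorElement_inv, ← mul_inv_rev, hW2 d (hdW b) a, inv_one]
    have hdd : d * d * (d * d) = 1 := by
      rw [show d * d = ⁅a, d⁆ * ⁅a * a, b⁆ by rw [e1, ← mul_assoc ⁅a, d⁆, he2, one_mul]]
      exact (omega h).mul_mem he2 (hW2 _ ha2W b)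
    obtain ⟨v, hv, hvv⟩ := root1 (d * d) (hdW b).1 hdd
    exact hinj d v hv hvv.symm
  -- an abelian quotient
  obtain ⟨k₁, hk₁⟩ : ∃ t, Monoid.exponent (P ⧸ Z) = 2 ^ t := by
    obtain ⟨t, ht⟩ := IsPGroup.iff_card.mp (hP.to_quotient Z)
    obtain ⟨s, -, hs⟩ := (Nat.dvd_prime_pow Nat.prime_two).mp (ht ▸ Group.exponent_dvd_nat_card : Monoid.exponent (P ⧸ Z) ∣ 2 ^ t)
    exact ⟨s, hs⟩
  have hk0 : 1 ≤ k₁ := by
    by_contra h0
    have := hk₁ ▸ Monoid.pow_exponent_eq_one (w₀ : P ⧸ Z)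
    rw [show k₁ = 0 by omega, pow_zero, pow_one] at this
    exact hw₀Z ((hqZ _).mp this)
  have hQall : ∀ q : P ⧸ Z, q ^ 2 ^ k₁ = 1 := fun q => hk₁ ▸ Monoid.pow_exponent_eq_one q
  obtain ⟨b₀, hb₀⟩ : ∃ q : P ⧸ Z, q ^ 2 ^ (k₁ - 1) ≠ 1 := by
    by_contra hno
    push Not at hno
    have := Monoid.exponent_dvd_of_forall_pow_eq_one hno
    rw [hk₁] at this
    have := (Nat.pow_dvd_pow_iff_le_right (le_refl 2)).mp this
    omega
  set N := 2 ^ (k₁ - 1) with hN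
  have hNW : ∀ a : P, a ^ N ∈ W := fun a => hclosed _ (by
    rw [← hqZ, ← pow_two, ← pow_mul, QuotientGroup.mk_pow, hN, ← pow_succ, show k₁ - 1 + 1 = k₁ by omega]
    exact hQall _)
  let ψ : P → P := fun a => φ (a ^ N)
  have hψmul : ∀ a b, ψ (a * b) = ψ a * ψ b := fun a b => by
    have hz : (a ^ N * b ^ N)⁻¹ * (a * b) ^ N ∈ Z := by
      rw [← hqZ]
      simp only [QuotientGroup.mk_mul, QuotientGroup.mk_inv, QuotientGroup.mk_pow]
      rw [Commute.mul_pow (hQab _ _), inv_mul_cancel]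
    show φ ((a * b) ^ N) = φ (a ^ N) * φ (b ^ N)
    rw [← hφmul _ (hNW a) _ (hNW b), ← mul_inv_cancel_left (a ^ N * b ^ N) ((a * b) ^ N),
      hφmul _ (mul_mem (hNW a) (hNW b)) _ (hZW hz), hφZ _ hz, mul_one]
  have hψker : ∀ a, ψ a = 1 → ∀ w ∈ W, ⁅a, w⁆ = 1 := by
    intro a ha w hw
    have h1 : (a : P ⧸ Z) ^ 2 ^ (k₁ - 1) = 1 := by
      rw [← QuotientGroup.mk_pow]
      exact (hqZ _).mpr (hφ1 _ (hNW a) ha)
    obtain ⟨q, hq⟩ := exists_root (hP.to_quotient Z) hQab hQ hb₀ (k₁ - 1) (by omega) _ h1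
    obtain ⟨y, rfl⟩ := QuotientGroup.mk_surjective q
    rw [show k₁ - 1 + 1 - (k₁ - 1) = 1 by omega, pow_one, pow_two, ← QuotientGroup.mk_mul, QuotientGroup.eq] at hq
    rw [← mul_inv_cancel_left (y * y) a, comm_mul_left (hWr _ w hw), comm_central hq, mul_one,
      comm_mul_left (hWr y w hw), ← commutatorElement_inv, ← mul_inv_rev, hW2 w hw y, inv_one]
  have hψ2 : ∀ a, ψ a * ψ a = 1 := fun a => hφ2 _ (hNW a)
  have hψρ : ∀ k a, ψ (ρ k a) = ρ k (ψ a) := fun k a => by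
    show φ ((ρ k a) ^ N) = ρ k (φ (a ^ N))
    rw [← map_pow, hφρ]
  obtain ⟨F, i1, i2, i3, E, f, ω, k₀, hgood, hk₀, -, -, -, -, hEadd, hE0, hEρ, hEsurj⟩ := exists_coord hK h
    (fun e => hw₀Z (hφ1 _ hw₀ e)) (hφ2 _ hw₀)
  have hE1 : E 1 = 0 := by
    have := hEadd 1 1 (one_mul 1) (one_mul 1)
    rw [one_mul] at this
    simpa using this
  have hsecW : ∀ x : F, ∃ w ∈ W, E (φ w) = x := by
    intro x
    obtain ⟨u, hu, rfl⟩ := hEsurj x
    by_cases hu1 : u = 1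
    · exact ⟨1, one_mem _, by rw [hφZ 1 (one_mem _), hu1]⟩
    obtain ⟨w, hw, rfl⟩ := hsurj u hu1 hu
    exact ⟨w, hw, rfl⟩
  have hsecP : ∀ x : F, ∃ a, E (ψ a) = x := by
    intro x
    obtain ⟨u, hu, rfl⟩ := hEsurj x
    by_cases hu1 : u = 1
    · exact ⟨1, by show E (φ (1 ^ N)) = E u; rw [one_pow, hφZ 1 (one_mem _), hu1]⟩
    obtain ⟨a, rfl⟩ := QuotientGroup.mk_surjective b₀
    have ha1 : ψ a ≠ 1 := fun e => hb₀ (by rw [← QuotientGroup.mk_pow]; exact (hqZ _).mpr (hφ1 _ (hNW a) e))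
    obtain ⟨k, hk⟩ := h.trans _ u ha1 (hψ2 a) hu1 hu
    exact ⟨ρ k a, by rw [hψρ, hk]⟩
  choose tw htw htwE using hsecW
  choose sa hsaE using hsecP
  let β : P → P → F := fun a w => E ⁅a, w⁆
  have hc2 : ∀ a : P, ∀ w ∈ W, ⁅a, w⁆ * ⁅a, w⁆ = 1 := fun a w hw => by
    rw [← commutatorElement_inv, ← mul_inv_rev, hW2 w hw a, inv_one]
  have hEeq : ∀ u v : P, u * u = 1 → v * v = 1 → E u = E v → u = v := fun u v hu hv e => by
    have h1 := hE0 (u * v) ((omega h).mul_mem hu hv) (by rw [hEadd u v hu hv, e, CharTwo.add_self_eq_zero])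
    rw [mul_eq_one_iff_eq_inv, inv_eq_of_sq hv] at h1
    exact h1
  have hwdW : ∀ a : P, ∀ w ∈ W, β a w = β a (tw (E (φ w))) := by
    intro a w hw
    have h1 := hEeq _ _ (hφ2 _ hw) (hφ2 _ (htw _)) (htwE (E (φ w))).symm
    have hz : (tw (E (φ w)))⁻¹ * w ∈ Z := by
      refine hφ1 _ (mul_mem (inv_mem (htw _)) hw) ?_
      refine (hφmul _ (inv_mem (htw _)) _ hw).trans ((congrArg _ h1).trans ?_)
      rw [← hφmul _ (inv_mem (htw _)) _ (htw _), inv_mul_cancel, hφZ 1 (one_mem _)]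
    show E ⁅a, w⁆ = E ⁅a, tw (E (φ w))⁆
    conv_lhs => rw [← mul_inv_cancel_left (tw (E (φ w))) w]
    rw [comm_mul_right (hWr a _ (hZW hz)), show ⁅a, (tw (E (φ w)))⁻¹ * w⁆ = 1 by
      rw [← commutatorElement_inv, comm_central hz, inv_one], mul_one]
  have hwdP : ∀ a : P, ∀ w ∈ W, β a w = β (sa (E (ψ a))) w := by
    intro a w hw
    have h1 := hEeq _ _ (hψ2 a) (hψ2 _) (hsaE (E (ψ a))).symm
    have hd : ψ ((sa (E (ψ a)))⁻¹ * a) = 1 := by
      refine (hψmul _ _).trans ((congrArg _ h1).trans ?_)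
      rw [← hψmul, inv_mul_cancel]
      show φ (1 ^ N) = 1
      rw [one_pow, hφZ 1 (one_mem _)]
    show E ⁅a, w⁆ = E ⁅sa (E (ψ a)), w⁆
    conv_lhs => rw [← mul_inv_cancel_left (sa (E (ψ a))) a]
    rw [comm_mul_left (hWr _ w hw), hψker _ hd w hw, mul_one]
  have hB := alternating_eq_zero (fun x y => β (sa x) (tw y)) ?_ ?_ ?_ hgood ?_
  · have hzero : ∀ a, ⁅a, w₀⁆ = 1 := fun a => hE0 _ (hc2 a _ hw₀) (by
      show β a w₀ = 0
      rw [hwdW a w₀ hw₀, hwdP a _ (htw _)]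
      exact hB _ _)
    exact hw₀Z (Subgroup.mem_center_iff.mpr fun a => commutatorElement_eq_one_iff_commute.mp (hzero a))
  · intro x y c
    have e : x + y = E (ψ (sa x * sa y)) := by rw [hψmul, hEadd _ _ (hψ2 _) (hψ2 _), hsaE, hsaE]
    rw [e, ← hwdP _ _ (htw c)]
    show E _ = _
    rw [comm_mul_left (hWr _ _ (htw c)), hEadd _ _ (hc2 _ _ (htw c)) (hc2 _ _ (htw c))]
  · intro c x y
    have e : x + y = E (φ (tw x * tw y)) := by
      rw [hφmul _ (htw x) _ (htw y), hEadd _ _ (hφ2 _ (htw x)) (hφ2 _ (htw y)), htwE, htwE]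
    rw [e, ← hwdW _ _ (mul_mem (htw x) (htw y))]
    show E _ = _
    rw [comm_mul_right (hWr _ _ (htw y)), hEadd _ _ (hc2 _ _ (htw x)) (hc2 _ _ (htw y))]
  · intro x
    have e : E (φ (sa x ^ N)) = x := hsaE x
    have := hwdW (sa x) _ (hNW (sa x))
    rw [e] at this
    show β (sa x) (tw x) = 0
    rw [← this]
    show E ⁅sa x, sa x ^ N⁆ = 0
    rw [commutatorElement_eq_one_iff_commute.mpr (Commute.self_pow _ _), hE1]
  · intro x y
    have hx : ω * x = E (ψ (ρ k₀ (sa x))) := by rw [hψρ, hEρ k₀ _ (hψ2 _), hsaE, hk₀]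
    have hy : ω * y = E (φ (ρ k₀ (tw y))) := by rw [hφρ, hEρ k₀ _ (hφ2 _ (htw y)), htwE, hk₀]
    rw [hx, hy, ← hwdP _ _ (htw _), ← hwdW _ _ (hWinv k₀ _ (htw y))]
    show E _ = ω * E _
    rw [← map_commutatorElement, hEρ k₀ _ (hc2 _ _ (htw y)), hk₀]

theorem center_sq_eq_one (hK : Group.IsSolvable K) {P : Type u} [Group P] [Finite P] (hP : IsPGroup 2 P) {ρ : K →* MulAut P}
    (h : InvolTrans ρ) (hnab : ∃ x y : P, x * y ≠ y * x) : ∀ z ∈ Subgroup.center P, z * z = 1 :=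
  center_sq_eq_one_aux hK _ le_rfl hP ρ h hnab

end Cfsg.Lib.SuzukiSolv
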