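import Cfsg.Agent.SuzukiSolv.Basic
import Cfsg.Agent.SuzukiSolv.Field
import Cfsg.Agent.LinearPerm.SolvableTransitive.Main

/-!
Semilinear coordinates on the involutions of a 2-group with a solvable transitive group of automorphisms.
-/

set_option autoImplicit false
set_option linter.style.haveILetI false

namespace Cfsg.Lib.SuzukiSolv

universe u v

theorem card_ker_mul_card_range {A B : Type*} [Group A] [Group B] (f : A →* B) :
    Nat.card f.ker * Nat.card f.range = Nat.card A := by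
  rw [← Subgroup.index_ker, Subgroup.card_mul_index]

/-- A semilinear transitive action contains scalars of small index. -/
theorem exists_good_scalar {F : Type u} [Field F] [Fintype F] [CharP F 2] {K : Type v} [Group K] [Finite K]
    (f : K → F →+ F) (h1 : ∀ x, f 1 x = x) (hmul : ∀ k k' x, f (k * k') x = f k (f k' x))
    (hsemi : ∀ k, ∃ (a : F) (σ : F ≃+* F), a ≠ 0 ∧ ∀ x, f k x = a * σ x)
    (htr : ∀ x, x ≠ 0 → ∃ k, f k 1 = x) :
    ∃ (ω : F) (k₀ : K), Good ω ∧ (∀ x, f k₀ x = ω * x) ∧ ((∃ x : F, x ≠ 0 ∧ x ≠ 1) → ω ≠ 1) := by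
  classical
  obtain ⟨nn, -, hnn⟩ := FiniteField.card F 2
  obtain ⟨n, hn0, hn⟩ : ∃ n : ℕ, 0 < n ∧ Nat.card F = 2 ^ n :=
    ⟨nn, nn.pos, by rw [Nat.card_eq_fintype_card]; exact hnn⟩
  rcases Nat.lt_or_ge n 2 with hn2 | hn2
  · obtain rfl : n = 1 := by omega
    have hs : Subsingleton (F ≃+* F) := (Nat.card_eq_one_iff_unique.mp (card_aut hn)).1
    refine ⟨1, 1, ⟨one_ne_zero, fun σ τ _ => Subsingleton.elim σ τ, fun σ τ _ => Subsingleton.elim σ τ,
      fun _ σ σ₁ _ _ _ => Subsingleton.elim σ σ₁⟩, fun x => by rw [h1, one_mul], ?_⟩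
    rintro ⟨x, hx0, hx1⟩
    have h3 : ({0, 1, x} : Finset F).card ≤ 2 := by
      rw [← pow_one 2, ← hn, Nat.card_eq_fintype_card]
      exact Finset.card_le_univ _
    rw [Finset.card_eq_three.mpr ⟨0, 1, x, zero_ne_one, hx0.symm, hx1.symm, rfl⟩] at h3
    omega
  choose a σ ha hf using hsemi
  have ha1 : ∀ k, f k 1 = a k := fun k => by rw [hf, map_one, mul_one]
  have hamul : ∀ k k', a (k * k') = a k * σ k (a k') := fun k k' => by
    rw [← ha1, hmul, ha1, hf]
  have hσmul : ∀ k k' x, σ (k * k') x = σ k (σ k' x) := fun k k' x => by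
    apply mul_left_cancel₀ (ha (k * k'))
    rw [← hf, hmul, hf, hf, map_mul, hamul, mul_assoc]
  let τ : K →* RingAut F := MonoidHom.mk' (fun k => σ k) fun k k' => RingEquiv.ext fun x => hσmul k k' x
  have hC : ∀ c ∈ τ.ker, ∀ x, σ c x = x := fun c hc x =>
    RingEquiv.congr_fun (show σ c = (1 : RingAut F) from hc) x
  let χ : τ.ker →* Fˣ := MonoidHom.mk' (fun c => Units.mk0 (a c.1) (ha _)) fun c c' => Units.ext (by
    show a (c.1 * c'.1) = a c.1 * a c'.1
    rw [hamul, hC c.1 c.2])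
  letI : MulAction K {x : F // x ≠ 0} :=
    { smul := fun k x => ⟨f k x.1, by
        rw [hf]
        exact mul_ne_zero (ha k) ((map_ne_zero (σ k)).mpr x.2)⟩
      one_smul := fun x => Subtype.ext (h1 x.1)
      mul_smul := fun k k' x => Subtype.ext (hmul k k' x.1) }
  have hsmul : ∀ (k : K) (x : {x : F // x ≠ 0}), (k • x).1 = f k x.1 := fun _ _ => rfl
  let one' : {x : F // x ≠ 0} := ⟨1, one_ne_zero⟩
  haveI : MulAction.IsPretransitive K {x : F // x ≠ 0} := ⟨fun x y => by
    obtain ⟨k, hk⟩ := htr x.1 x.2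
    obtain ⟨k', hk'⟩ := htr y.1 y.2
    have ex : k • one' = x := Subtype.ext hk
    have ey : k' • one' = y := Subtype.ext hk'
    exact ⟨k' * k⁻¹, by rw [mul_smul, ← ex, inv_smul_smul, ey]⟩⟩
  let S := MulAction.stabilizer K one'
  have hS : Nat.card S * (2 ^ n - 1) = Nat.card K := by
    have hcard : Nat.card {x : F // x ≠ 0} = 2 ^ n - 1 := by
      rw [← hn, Nat.card_eq_fintype_card, Nat.card_eq_fintype_card, Fintype.card_subtype_compl,
        Fintype.card_subtype_eq]
    rw [← hcard, ← MulAction.index_stabilizer_of_transitive K one', Subgroup.card_mul_index]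
  let ψ : S →* RingAut F := τ.comp S.subtype
  have hker : Nat.card χ.ker = Nat.card ψ.ker := by
    refine Nat.card_congr
      { toFun := fun c => ⟨⟨c.1.1, MulAction.mem_stabilizer_iff.mpr (Subtype.ext ?_)⟩, c.1.2⟩
        invFun := fun s => ⟨⟨s.1.1, s.2⟩, ?_⟩
        left_inv := fun _ => rfl
        right_inv := fun _ => rfl }
    · show f c.1.1 1 = 1
      rw [ha1]
      exact congrArg Units.val c.2
    · refine Units.ext ?_
      show a s.1.1 = 1
      rw [← ha1]
      exact congrArg Subtype.val (MulAction.mem_stabilizer_iff.mp s.1.2)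
  have c1 := card_ker_mul_card_range τ
  have c2 := card_ker_mul_card_range χ
  have c3 := card_ker_mul_card_range ψ
  obtain ⟨e, he⟩ : Nat.card χ.range ∣ 2 ^ n - 1 := by
    have h := Subgroup.card_subgroup_dvd_card χ.range
    rwa [Nat.card_units, hn] at h
  have hj : Nat.card τ.range ∣ n := by
    have h := Subgroup.card_subgroup_dvd_card τ.range
    rwa [show Nat.card (RingAut F) = n from card_aut hn] at h
  have hrel : Nat.card ψ.ker * Nat.card χ.range * (e * Nat.card ψ.range) =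
      Nat.card ψ.ker * Nat.card χ.range * Nat.card τ.range := by
    calc Nat.card ψ.ker * Nat.card χ.range * (e * Nat.card ψ.range)
        = Nat.card ψ.ker * Nat.card ψ.range * (Nat.card χ.range * e) := by ring
      _ = Nat.card χ.ker * Nat.card χ.range * Nat.card τ.range := by rw [← he, c3, hS, c2, c1]
      _ = _ := by rw [hker]
  have hen : e ∣ n :=
    (Dvd.intro _ (Nat.eq_of_mul_eq_mul_left (Nat.mul_pos Nat.card_pos Nat.card_pos) hrel)).trans hj
  obtain ⟨g, hg⟩ := IsCyclic.exists_generator (α := χ.range)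
  obtain ⟨c, hc⟩ := g.2
  have hord : orderOf (((g : Fˣ) : F)) = Nat.card χ.range := by
    rw [orderOf_units, Subgroup.orderOf_coe, orderOf_eq_card_of_forall_mem_zpowers hg]
  obtain ⟨hgood, hne⟩ := good_of_orderOf hn hn2 hen he.symm hord
  refine ⟨_, c.1, hgood, fun x => ?_, fun _ => hne⟩
  rw [hf, hC c.1 c.2]
  exact congrArg (· * x) (congrArg Units.val hc)

/-- Coordinates on the group of involutions. -/
theorem exists_coord {K : Type v} [Group K] [Finite K] (hK : Group.IsSolvable K) {P : Type u} [Group P]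
    [Finite P] {ρ : K →* MulAut P} (h : InvolTrans ρ) {z : P} (hz1 : z ≠ 1) (hz : z * z = 1) :
    ∃ (F : Type) (_ : Field F) (_ : Fintype F) (_ : CharP F 2) (E : P → F) (f : K → F →+ F) (ω : F) (k₀ : K),
      Good ω ∧ (∀ x, f k₀ x = ω * x) ∧ ((∃ x : F, x ≠ 0 ∧ x ≠ 1) → ω ≠ 1) ∧
      (∀ k, ∃ (a : F) (σ : F ≃+* F), a ≠ 0 ∧ ∀ x, f k x = a * σ x) ∧
      (∀ k x, f k (f k⁻¹ x) = x) ∧ (∀ x y, x ≠ 0 → y ≠ 0 → ∃ k, f k x = y) ∧
      (∀ a b, a * a = 1 → b * b = 1 → E (a * b) = E a + E b) ∧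
      (∀ a, a * a = 1 → E a = 0 → a = 1) ∧ (∀ k a, a * a = 1 → E (ρ k a) = f k (E a)) ∧
      (∀ x : F, ∃ a, a * a = 1 ∧ E a = x) := by
  classical
  letI : CommGroup (omega h) :=
    { (inferInstance : Group (omega h)) with
      mul_comm := fun a b => Subtype.ext (Subgroup.mem_center_iff.mp (h.central b b.2) a) }
  haveI : Nontrivial (omega h) := ⟨⟨⟨z, hz⟩, 1, fun e => hz1 (congrArg Subtype.val e)⟩⟩
  letI : Module (ZMod 2) (Additive (omega h)) :=
    AddCommGroup.zmodModule (n := 2) fun x => by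
      rw [two_nsmul]
      exact Subtype.ext x.toMul.2
  haveI : Fact (Nat.Prime 2) := ⟨Nat.prime_two⟩
  let r := restrictAut ρ (omega h) fun k x hx => omega_invariant h k hx
  let Φ : K →* (Additive (omega h) ≃ₗ[ZMod 2] Additive (omega h)) :=
    { toFun := fun k => { MulEquiv.toAdditive (r k) with map_smul' := ZMod.map_smul (MulEquiv.toAdditive (r k)) }
      map_one' := LinearEquiv.ext fun x => congrArg (fun m : MulAut (omega h) => Additive.ofMul (m x.toMul)) (map_one r)
      map_mul' := fun k k' => LinearEquiv.ext fun x =>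
        congrArg (fun m : MulAut (omega h) => Additive.ofMul (m x.toMul)) (map_mul r k k') }
  haveI := hK
  have hsol : Group.IsSolvable Φ.range := Group.isSolvable_of_surjective Φ.rangeRestrict_surjective
  haveI : Finite Φ.range := Finite.of_surjective _ Φ.rangeRestrict_surjective
  have htrV : ∀ v w : Additive (omega h), v ≠ 0 → w ≠ 0 → ∃ g : Φ.range, Φ.range.subtype g v = w := by
    intro v w hv hw
    obtain ⟨k, hk⟩ := h.trans v.toMul.1 w.toMul.1 (fun e => hv (Subtype.ext e)) v.toMul.2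
      (fun e => hw (Subtype.ext e)) w.toMul.2
    exact ⟨⟨Φ k, k, rfl⟩, Subtype.ext hk⟩
  rcases Cfsg.Lib.SolvableTransitive.main hsol Φ.range.subtype Subtype.val_injective htrV with
    ⟨F, iF, iT, e, he⟩ | hexc
  swap
  · exfalso
    obtain ⟨t, ht⟩ : ∃ t, Nat.card (Additive (omega h)) = 2 ^ t :=
      ⟨_, by rw [Module.natCard_eq_pow_finrank (K := ZMod 2), Nat.card_zmod]⟩
    rcases Nat.eq_zero_or_pos t with h0 | h0
    · have := Finite.one_lt_card (α := Additive (omega h))
      rw [ht, h0] at this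
      simp at this
    · have h2 : 2 ∣ Nat.card (Additive (omega h)) := ht ▸ dvd_pow_self 2 h0.ne'
      simp only [Set.mem_insert_iff, Set.mem_singleton_iff] at hexc
      omega
  haveI : CharP F 2 := by
    refine CharTwo.of_one_ne_zero_of_two_eq_zero one_ne_zero ?_
    rw [← one_add_one_eq_two]
    obtain ⟨v, hv⟩ := e.surjective 1
    rw [← hv, ← map_add, show v + v = 0 from Subtype.ext v.toMul.2, map_zero]
  let f : K → F →+ F := fun k => e.toAddMonoidHom.comp ((Φ k).toLinearMap.toAddMonoidHom.comp e.symm.toAddMonoidHom)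
  have hf : ∀ k v, f k (e v) = e (Φ k v) := fun k v => by
    show e (Φ k (e.symm (e v))) = _
    rw [e.symm_apply_apply]
  have h1 : ∀ x, f 1 x = x := fun x => by
    obtain ⟨v, rfl⟩ := e.surjective x
    rw [hf, map_one]
    rfl
  have hmul : ∀ k k' x, f (k * k') x = f k (f k' x) := fun k k' x => by
    obtain ⟨v, rfl⟩ := e.surjective x
    rw [hf, hf, hf, map_mul]
    rfl
  have hsemi : ∀ k, ∃ (a : F) (σ : F ≃+* F), a ≠ 0 ∧ ∀ x, f k x = a * σ x := by
    intro k
    obtain ⟨a, σ, haσ⟩ := he ⟨Φ k, k, rfl⟩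
    refine ⟨a, σ, fun h0 => ?_, fun x => ?_⟩
    · obtain ⟨v, hv⟩ := exists_ne (0 : Additive (omega h))
      refine hv ((Φ k).map_eq_zero_iff.mp (e.injective ?_))
      have := haσ v
      rw [h0, zero_mul] at this
      rw [map_zero]
      exact this
    · obtain ⟨v, rfl⟩ := e.surjective x
      rw [hf]
      exact haσ v
  have htr : ∀ x y, x ≠ 0 → y ≠ 0 → ∃ k, f k x = y := by
    intro x y hx hy
    obtain ⟨v, rfl⟩ := e.surjective x
    obtain ⟨w, rfl⟩ := e.surjective y
    obtain ⟨⟨g, k, rfl⟩, hk⟩ := htrV v w (fun h0 => hx (by rw [h0, map_zero])) (fun h0 => hy (by rw [h0, map_zero]))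
    exact ⟨k, (hf k v).trans (congrArg e hk)⟩
  obtain ⟨ω, k₀, hgood, hk₀, hne⟩ := exists_good_scalar f h1 hmul hsemi fun x hx => htr 1 x one_ne_zero hx
  let E : P → F := fun a => if ha : a ∈ omega h then e (Additive.ofMul ⟨a, ha⟩) else 0
  have hE : ∀ a (ha : a * a = 1), E a = e (Additive.ofMul ⟨a, ha⟩) := fun a ha =>
    dif_pos (show a ∈ omega h from ha)
  refine ⟨F, iF, iT, inferInstance, E, f, ω, k₀, hgood, hk₀, hne, hsemi,
    fun k x => by rw [← hmul, mul_inv_cancel, h1], htr, fun a b ha hb => ?_, fun a ha h0 => ?_,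
    fun k a ha => ?_, fun x => ?_⟩
  · rw [hE a ha, hE b hb, hE (a * b) ((omega h).mul_mem ha hb), ← map_add]
    rfl
  · rw [hE a ha] at h0
    exact congrArg (fun v : Additive (omega h) => v.toMul.1) (e.map_eq_zero_iff.mp h0)
  · rw [hE a ha, hE _ (omega_invariant h k ha), hf]
    rfl
  · obtain ⟨v, rfl⟩ := e.surjective x
    exact ⟨v.toMul.1, v.toMul.2, hE _ v.toMul.2⟩

end Cfsg.Lib.SuzukiSolv
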